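import Groth.Agent.Exact7.QCohTest

/-!
# Free local models on affine charts
-/

set_option linter.style.haveILetI false

universe u

open CategoryTheory CategoryTheory.Limits AlgebraicGeometry

attribute [local instance] HasDerivedCategory.standard

noncomputable section

namespace Groth.Agent.Exact7

open KFlatLib

variable {X : Scheme.{u}}

set_option maxHeartbeats 1000000 in
/-- Free models live on affine charts. -/
theorem exists_affine_data (E : DCoh.D X) {m : ℤ} (hE : LocPC m E) (x : X) :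
    ∃ (R : CommRingCat.{u}) (j : Spec R ⟶ X) (_ : IsOpenImmersion j) (_ : x ∈ Set.range j.base)
      (P : CochainComplex (Spec R).Modules ℤ) (n : ℤ → ℕ) (_ : ∀ i, P.X i ≅ FlatMod.freeMod (Spec R) (n i))
      (α : DerivedCategory.Q.obj P ⟶ (rho j).obj E), DCoh.IsKFlat P ∧ IsPcMap m α := by
  obtain ⟨U, j, _, ⟨y, rfl⟩, P, n, e, α, hP, hα⟩ := exists_betti_data E hE x
  obtain ⟨_, ⟨W, hW, rfl⟩, hyW, -⟩ :=
    U.isBasis_affineOpens.exists_subset_of_mem_open (Set.mem_univ y) isOpen_univ
  let k := IsAffineOpen.fromSpec hW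
  haveI : IsOpenImmersion k := IsAffineOpen.isOpenImmersion_fromSpec hW
  have hy : y ∈ Set.range k.base := by rw [hW.range_fromSpec]; exact hyW
  refine ⟨Γ(U, W), k ≫ j, inferInstance, ?_, (rCx k).obj P, n, fun i =>
      (Scheme.Modules.restrictFunctor k).mapIso (e i) ≪≫
        (Scheme.Modules.restrictFunctorIsoPullback k).app _ ≪≫ pullFreeIso k (n i),
    ((rhoQ k).app P).inv ≫ (rho k).map α ≫ (rhoComp k j _ rfl E).hom, isKFlat_restrict k hP,
    (hα.map_exact _).comp_iso _ _⟩
  obtain ⟨z, hz⟩ := hy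
  exact ⟨z, by rw [Scheme.Hom.comp_base]; exact congrArg j.base hz⟩

/-- Exactness on quasi-coherent modules gives local freeness and locally constant fibre dimensions. -/
theorem criterion_qcoh [QuasiSeparatedSpace X] {F E' : CochainComplex X.Modules ℤ} (β : E' ⟶ F)
    [QuasiIso β] (hE' : DCoh.IsKFlat E') (p : ℤ) (hF : LocPC (p - 1) (DCoh.toD X F))
    [∀ x : X, DCoh.HasLpull (X.fromSpecResidueField x)]
    (hm : MonoQ (hom' (phi DCoh.tensorBi E') p)) (he : EpiQ (hom' (phi DCoh.tensorBi E') p)) :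
    FlatMod.IsFinLocFree (DCoh.HD (DCoh.toD X F) p) ∧
      IsLocallyConstant fun x : X => PerfD.betti (DCoh.toD X F) x p := by
  refine glue _ p fun x => ?_
  obtain ⟨R, j, _, hx, P, n, e, α, hP, hα⟩ := exists_affine_data (DCoh.toD X F) hF x
  haveI : QuasiCompact j := quasiCompact_of_compactSpace j
  obtain ⟨e₁⟩ := nonempty_model_iso β hE' j hP α hα p (sub_one_lt p)
  have hfl : ∀ i, FlatMod.IsFlat (P.X i) := fun i => IsFlat.of_iso (e i).symm (isFlat_freeMod (n i))
  have hm' := ((restrictQ j E' p).1 hm).of_iso e₁.symm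
  have he' := ((restrictQ j E' p).2 he).of_iso e₁.symm
  exact ⟨Spec R, j, inferInstance, hx, locus_of_flat _ j hP e α hα p (sub_one_lt p)
    (isFlat_of_monoQ (monoQ_tensor_opcycles P hfl p hm'))
    (isFlat_of_monoQ (monoQ_tensor_opcycles P hfl (p + 1) (monoQ_succ P hfl p he')))⟩

end Groth.Agent.Exact7
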