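import Groth.Agent.Exact7.LocalData
import Groth.Agent.S9824
import Groth.Agent.KFlatLib.Perfect.FiniteType

/-!
# Constant fibre dimensions over a reduced scheme give exactness
-/

set_option linter.style.haveILetI false

universe u

open CategoryTheory CategoryTheory.Limits AlgebraicGeometry Module TensorProduct

attribute [local instance] HasDerivedCategory.standard

noncomputable section

namespace Groth.Agent.Exact7

open KFlatLib

variable {X U : Scheme.{u}}

/-- Restriction of a free module is free. -/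
def restrictFreeModIso (V : U.Opens) (n : ℕ) :
    (Scheme.Modules.restrictFunctor V.ι).obj (FlatMod.freeMod U n) ≅ FlatMod.freeMod (V : Scheme.{u}) n :=
  (Scheme.Modules.restrictFunctorIsoPullback V.ι).app _ ≪≫ pullFreeIso V.ι n

/-- Cokernels of maps of free modules are finitely presented. -/
theorem isFP_cokernel_free {p q : ℕ} (d : FlatMod.freeMod U p ⟶ FlatMod.freeMod U q) :
    CohB1.IsFP (cokernel d) := KFlatLib.isFP_of_free fun _ =>
  ⟨⊤, p, q, (restrictFreeModIso ⊤ p).inv ≫ (Scheme.Modules.restrictFunctor (⊤ : U.Opens).ι).map d ≫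
    (restrictFreeModIso ⊤ q).hom, trivial,
    ⟨cokernel.mapIso _ _ (restrictFreeModIso ⊤ p).symm (restrictFreeModIso ⊤ q).symm (by simp) ≪≫
      (PreservesCokernel.iso (Scheme.Modules.restrictFunctor (⊤ : U.Opens).ι) d).symm⟩⟩

/-- Over a reduced scheme, constant fibre rank gives a flat cokernel. -/
theorem isFlat_cokernel_of_rkAt [IsReduced U] {p q : ℕ}
    (d : FlatMod.freeMod U p ⟶ FlatMod.freeMod U q)
    (h : IsLocallyConstant fun y : U => rkAt (secMat d) y) : FlatMod.IsFlat (cokernel d) := by
  have hFP := isFP_cokernel_free d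
  haveI : Coh.IsQCoh (cokernel d) := QCoh.isQCoh_of_isFP hFP
  refine isFlat_of_isFinLocFree ((Groth.Agent.S9824.result U (cokernel d)).2 ⟨QCoh.isFT_of_isFP hFP, ?_⟩)
  have key : (fun y : U => finrank (IsLocalRing.ResidueField (U.presheaf.stalk y))
      (IsLocalRing.ResidueField (U.presheaf.stalk y) ⊗[U.presheaf.stalk y]
        ((cokernel d).presheaf.stalk y))) = (fun r => q - r) ∘ fun y : U => rkAt (secMat d) y :=
    funext fun y => by
      let st := DerSch.stalkFunctor U y
      haveI : IsLocalHom (U.residue y).hom := inferInstanceAs (IsLocalHom (IsLocalRing.residue _))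
      haveI := (finite_free_stalk_freeMod y q).1
      haveI := (finite_free_stalk_freeMod y q).2.1
      let S := ShortComplex.mk d (cokernel.π d) (cokernel.condition d)
      have hS : (S.map st).Exact := (exact_iff_stalk S).1 (ShortComplex.exact_cokernel d) y
      have hr : finrank (IsLocalRing.ResidueField (U.presheaf.stalk y))
          (LinearMap.range ((st.map d).hom.baseChange (IsLocalRing.ResidueField (U.presheaf.stalk y)))) =
          rkAt (secMat d) y :=
        (finrank_range_extend y d (IsLocalRing.residue (U.presheaf.stalk y))).trans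
          (rank_map_eq_rkAt (secMat d) y (IsLocalRing.residue (U.presheaf.stalk y)))
      have h := rank_range_baseChange_add (IsLocalRing.ResidueField (U.presheaf.stalk y))
        (f := (st.map d).hom) (g := (st.map (cokernel.π d)).hom)
        ((ShortComplex.ShortExact.moduleCat_exact_iff_function_exact _).1 hS)
        ((ModuleCat.epi_iff_surjective _).1 inferInstance)
      rw [hr, Module.finrank_baseChange (R := IsLocalRing.ResidueField (U.presheaf.stalk y))
        (M' := (st.obj (FlatMod.freeMod U q) : Type u)), (finite_free_stalk_freeMod y q).2.2] at h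
      change finrank (IsLocalRing.ResidueField (U.presheaf.stalk y))
        (IsLocalRing.ResidueField (U.presheaf.stalk y) ⊗[U.presheaf.stalk y] (st.obj (cokernel d) : Type u)) = _
      simp only [Function.comp_apply]
      omega
  rw [key]
  exact h.comp _

/-- A locally constant sum of two lower semicontinuous functions. -/
lemma isLocallyConstant_of_add {Y : Type*} [TopologicalSpace Y] {a b : Y → ℕ}
    (ha : ∀ r, IsOpen {y | r ≤ a y}) (hb : ∀ r, IsOpen {y | r ≤ b y})
    (h : IsLocallyConstant fun y => a y + b y) : IsLocallyConstant a := by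
  refine (IsLocallyConstant.iff_exists_open _).2 fun y => ?_
  obtain ⟨C, hC, hyC, hconst⟩ := (IsLocallyConstant.iff_exists_open _).1 h y
  refine ⟨C ∩ {z | a y ≤ a z} ∩ {z | b y ≤ b z}, (hC.inter (ha _)).inter (hb _),
    ⟨⟨hyC, le_refl (a y)⟩, le_refl (b y)⟩, fun z ⟨⟨hz, h1⟩, h2⟩ => ?_⟩
  have : a z + b z = a y + b y := hconst z hz
  change a y ≤ a z at h1
  change b y ≤ b z at h2
  omega

/-- Constant fibre dimensions make the cokernels around degree `p` flat. -/
theorem flat_opcycles_of_betti [IsReduced U] {P : CochainComplex U.Modules ℤ} {n : ℤ → ℕ}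
    (e : ∀ i, P.X i ≅ FlatMod.freeMod U (n i)) (p : ℤ)
    (h : IsLocallyConstant fun y : U => rkAt (dMat e (p - 1) p) y + rkAt (dMat e p (p + 1)) y) :
    FlatMod.IsFlat (P.opcycles p) ∧ FlatMod.IsFlat (P.opcycles (p + 1)) := by
  have ho : ∀ a b : ℤ, ∀ r : ℕ, IsOpen {y : U | r ≤ rkAt (dMat e a b) y} := fun a b r => by
    convert (minorLocus (dMat e a b) r).2 using 1
    ext y
    exact le_rkAt_iff _ _ _
  have hop : ∀ a b : ℤ, a + 1 = b → IsLocallyConstant (fun y : U => rkAt (dMat e a b) y) →
      FlatMod.IsFlat (P.opcycles b) := fun a b hab hr =>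
    IsFlat.of_iso ((cokernel.mapIso (P.d a b) ((e a).inv ≫ P.d a b ≫ (e b).hom) (e a) (e b)
        (Iso.hom_inv_id_assoc (e a) _).symm).symm ≪≫
      (cokernelIsCokernel (P.d a b)).coconePointUniqueUpToIso
        (P.opcyclesIsCokernel a b (by simp; omega))) (isFlat_cokernel_of_rkAt _ hr)
  refine ⟨hop (p - 1) p (by omega) (isLocallyConstant_of_add (ho _ _) (ho _ _) h),
    hop p (p + 1) rfl (isLocallyConstant_of_add (ho _ _) (ho (p - 1) p) ?_)⟩
  simpa only [add_comm] using h

/-- Exactness from flat opcycles. -/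
theorem exact_of_flat_opcycles (P : CochainComplex U.Modules ℤ) (hP : ∀ n, FlatMod.IsFlat (P.X n))
    (p : ℤ) (h₀ : FlatMod.IsFlat (P.opcycles p)) (h₁ : FlatMod.IsFlat (P.opcycles (p + 1))) :
    PreservesFiniteLimits (hom' (phi DCoh.tensorBi P) p) ∧
      PreservesFiniteColimits (hom' (phi DCoh.tensorBi P) p) := by
  have hΦ := scheme_shortExact_phi P hP
  have hmono : ∀ n, FlatMod.IsFlat (P.opcycles n) → PreservesFiniteLimits (hom' (phi DCoh.tensorBi P) n) :=
    fun n hn => (leftExact_phi_iff DCoh.tensorBi P hΦ n).2 fun A B f hf => by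
      have hS : (ShortComplex.mk f (cokernel.π f) (cokernel.condition f)).ShortExact :=
        { exact := ShortComplex.exact_cokernel f, mono_f := hf }
      exact (flatObj_of_isFlat hn _ hS).mono_f
  exact ⟨hmono p h₀, (rightExact_iff_leftExact_succ hΦ p (p + 1) rfl).2 (hmono _ h₁)⟩

/-- Exactness is local. -/
theorem exact_of_cover {E : CochainComplex X.Modules ℤ} (hE : ∀ n, FlatMod.IsFlat (E.X n)) (p : ℤ)
    (h : ∀ x : X, ∃ (U : Scheme.{u}) (j : U ⟶ X) (_ : IsOpenImmersion j), x ∈ Set.range j.base ∧
      PreservesFiniteLimits (hom' (phi DCoh.tensorBi ((rCx j).obj E)) p) ∧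
      PreservesFiniteColimits (hom' (phi DCoh.tensorBi ((rCx j).obj E)) p)) :
    PreservesFiniteLimits (hom' (phi DCoh.tensorBi E) p) ∧
      PreservesFiniteColimits (hom' (phi DCoh.tensorBi E) p) := by
  have hG := exact_map_hom' (scheme_shortExact_phi E hE) p
  have key : ∀ (U : Scheme.{u}) (j : U ⟶ X) [IsOpenImmersion j] {M N : X.Modules} (f : M ⟶ N),
      Arrow.mk ((Scheme.Modules.restrictFunctor j).map ((hom' (phi DCoh.tensorBi E) p).map f)) ≅
        Arrow.mk ((hom' (phi DCoh.tensorBi ((rCx j).obj E)) p).map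
          ((Scheme.Modules.restrictFunctor j).map f)) := fun U j _ M N f =>
    haveI : (Scheme.Modules.restrictFunctor j).PreservesHomology := Functor.preservesHomologyOfExact _
    ((Functor.mapArrowFunctor _ _).mapIso (homMapIso DCoh.tensorBi DCoh.tensorBi
      (Scheme.Modules.restrictFunctor j) (restrictTensorBiIso j) E p)).app (Arrow.mk f)
  constructor
  · rw [preservesFiniteLimits_iff_mono hG]
    intro S hS
    haveI := hS.mono_f
    refine (ShortComplex.exact_iff_mono (ShortComplex.mk (0 : (hom' (phi DCoh.tensorBi E) p).obj S.X₁ ⟶ _)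
      ((hom' (phi DCoh.tensorBi E) p).map S.f) zero_comp) rfl).1 ((exact_iff_stalk _).2 fun x => ?_)
    refine ((ShortComplex.mk (0 : (hom' (phi DCoh.tensorBi E) p).obj S.X₁ ⟶ _)
      ((hom' (phi DCoh.tensorBi E) p).map S.f) zero_comp).map (DerSch.stalkFunctor X x)).exact_iff_mono
        ((DerSch.stalkFunctor X x).map_zero _ _) |>.2 ?_
    obtain ⟨U, j, _, ⟨y, rfl⟩, hl, -⟩ := h x
    haveI := hl
    haveI hU : Mono ((Scheme.Modules.restrictFunctor j).map ((hom' (phi DCoh.tensorBi E) p).map S.f)) :=
      ((MorphismProperty.monomorphisms _).arrow_mk_iso_iff (key U j S.f)).2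
        (inferInstanceAs (Mono ((hom' (phi DCoh.tensorBi ((rCx j).obj E)) p).map
          ((Scheme.Modules.restrictFunctor j).map S.f))))
    refine (ModuleCat.mono_iff_injective _).2 (injective_stalk_of_restrict j _ y ?_)
    exact (ModuleCat.mono_iff_injective _).1 (inferInstanceAs (Mono ((DerSch.stalkFunctor U y).map
      ((Scheme.Modules.restrictFunctor j).map ((hom' (phi DCoh.tensorBi E) p).map S.f)))))
  · rw [preservesFiniteColimits_iff_epi hG]
    intro S hS
    haveI := hS.epi_g
    refine (ShortComplex.exact_iff_epi (ShortComplex.mk ((hom' (phi DCoh.tensorBi E) p).map S.g)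
      (0 : _ ⟶ (hom' (phi DCoh.tensorBi E) p).obj S.X₃) comp_zero) rfl).1 ((exact_iff_stalk _).2 fun x => ?_)
    refine ((ShortComplex.mk ((hom' (phi DCoh.tensorBi E) p).map S.g)
      (0 : _ ⟶ (hom' (phi DCoh.tensorBi E) p).obj S.X₃) comp_zero).map (DerSch.stalkFunctor X x)).exact_iff_epi
        ((DerSch.stalkFunctor X x).map_zero _ _) |>.2 ?_
    obtain ⟨U, j, _, ⟨y, rfl⟩, -, hr⟩ := h x
    haveI := hr
    haveI hU : Epi ((Scheme.Modules.restrictFunctor j).map ((hom' (phi DCoh.tensorBi E) p).map S.g)) :=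
      ((MorphismProperty.epimorphisms _).arrow_mk_iso_iff (key U j S.g)).2
        (inferInstanceAs (Epi ((hom' (phi DCoh.tensorBi ((rCx j).obj E)) p).map
          ((Scheme.Modules.restrictFunctor j).map S.g))))
    refine (ModuleCat.epi_iff_surjective _).2 (surjective_stalk_of_restrict j _ y ?_)
    exact (ModuleCat.epi_iff_surjective _).1 (inferInstanceAs (Epi ((DerSch.stalkFunctor U y).map
      ((Scheme.Modules.restrictFunctor j).map ((hom' (phi DCoh.tensorBi E) p).map S.g)))))

/-- Constant fibre dimensions on a reduced scheme give exactness. -/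
theorem exact_of_betti [IsReduced X] {F E' : CochainComplex X.Modules ℤ} (β : E' ⟶ F) [QuasiIso β]
    (hE' : DCoh.IsKFlat E') (hfl : ∀ n, FlatMod.IsFlat (E'.X n)) (p : ℤ)
    (hF : LocPC (p - 1) (DCoh.toD X F)) [∀ x : X, DCoh.HasLpull (X.fromSpecResidueField x)]
    (hc : IsLocallyConstant fun x : X => PerfD.betti (DCoh.toD X F) x p) :
    PreservesFiniteLimits (hom' (phi DCoh.tensorBi E') p) ∧
      PreservesFiniteColimits (hom' (phi DCoh.tensorBi E') p) := by
  refine exact_of_cover hfl p fun x => ?_
  obtain ⟨U, j, _, hx, P, n, e, α, hP, hα⟩ := exists_betti_data (DCoh.toD X F) hF x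
  haveI : IsReduced U := isReduced_of_isOpenImmersion j
  have hf : ∀ y : U, PerfD.betti (DCoh.toD X F) (j.base y) p + rkAt (dMat e (p - 1) p) y +
      rkAt (dMat e p (p + 1)) y = n p := fun y =>
    betti_formula _ _ j y rfl hP e α hα (p - 1) p (p + 1) (by omega) rfl (sub_one_lt p)
  have hsum : IsLocallyConstant fun y : U => rkAt (dMat e (p - 1) p) y + rkAt (dMat e p (p + 1)) y := by
    have : (fun y : U => rkAt (dMat e (p - 1) p) y + rkAt (dMat e p (p + 1)) y) =
        (fun b => n p - b) ∘ (fun x : X => PerfD.betti (DCoh.toD X F) x p) ∘ j.base := funext fun y => by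
      have := hf y
      simp only [Function.comp_apply]
      omega
    rw [this]
    exact (hc.comp_continuous j.continuous).comp _
  obtain ⟨h₀, h₁⟩ := flat_opcycles_of_betti e p hsum
  obtain ⟨e₁⟩ := nonempty_model_iso β hE' j hP α hα p (sub_one_lt p)
  obtain ⟨hl, hr⟩ := exact_of_flat_opcycles P
    (fun i => IsFlat.of_iso (e i).symm (isFlat_freeMod (n i))) p h₀ h₁
  haveI := hl
  haveI := hr
  exact ⟨U, j, inferInstance, hx, preservesFiniteLimits_of_natIso e₁, preservesFiniteColimits_of_natIso e₁⟩

end Groth.Agent.Exact7
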