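import Mathlib.Algebra.Homology.HomologySequence
import Mathlib.Algebra.Homology.ShortComplex.ExactFunctor
import Mathlib.CategoryTheory.Abelian.Exact

/-!
# Exactness of the homology of an exact complex-valued functor
-/

universe v v' u u'

open CategoryTheory CategoryTheory.Limits

set_option linter.style.haveILetI false

namespace Groth.Agent.Exact7


variable {A : Type u} [Category.{v} A] [Abelian A] {B : Type u'} [Category.{v'} B] [Abelian B]

section

variable {G : A ⥤ B} [G.Additive]

/-- A half exact functor is right exact iff it preserves the epimorphisms of short exact sequences. -/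
lemma preservesFiniteColimits_iff_epi
    (hG : ∀ S : ShortComplex A, S.ShortExact → (S.map G).Exact) :
    PreservesFiniteColimits G ↔ ∀ S : ShortComplex A, S.ShortExact → Epi (G.map S.g) :=
  (Functor.preservesFiniteColimits_iff_forall_exact_map_and_epi G).trans
    ⟨fun h S hS => (h S hS).2, fun h S hS => ⟨hG S hS, h S hS⟩⟩

/-- A half exact functor is left exact iff it preserves the monomorphisms of short exact sequences. -/
lemma preservesFiniteLimits_iff_mono
    (hG : ∀ S : ShortComplex A, S.ShortExact → (S.map G).Exact) :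
    PreservesFiniteLimits G ↔ ∀ S : ShortComplex A, S.ShortExact → Mono (G.map S.f) :=
  (Functor.preservesFiniteLimits_iff_forall_exact_map_and_mono G).trans
    ⟨fun h S hS => (h S hS).2, fun h S hS => ⟨hG S hS, h S hS⟩⟩

end

section

variable (Φ : A ⥤ CochainComplex B ℤ) [Φ.Additive]

/-- `M ↦ H^i(Φ M)`. -/
noncomputable abbrev hom' (i : ℤ) : A ⥤ B :=
  Φ ⋙ HomologicalComplex.homologyFunctor B (ComplexShape.up ℤ) i

variable {Φ}
variable (hΦ : ∀ S : ShortComplex A, S.ShortExact → (S.map Φ).ShortExact)
include hΦ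

lemma exact_map_hom' (i : ℤ) (S : ShortComplex A) (hS : S.ShortExact) : (S.map (hom' Φ i)).Exact :=
  (hΦ S hS).homology_exact₂ i

/-- `H^p` is right exact iff `H^{p+1}` is left exact. -/
theorem rightExact_iff_leftExact_succ (p q : ℤ) (hpq : p + 1 = q) :
    PreservesFiniteColimits (hom' Φ p) ↔ PreservesFiniteLimits (hom' Φ q) := by
  rw [preservesFiniteColimits_iff_epi (exact_map_hom' hΦ p),
    preservesFiniteLimits_iff_mono (exact_map_hom' hΦ q)]
  refine forall₂_congr fun S hS => ?_
  have e₃ := (hΦ S hS).homology_exact₃ p q hpq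
  have e₁ := (hΦ S hS).homology_exact₁ p q hpq
  exact e₃.epi_f_iff.trans e₁.mono_g_iff.symm

/-- `H^n` is left exact iff `opcycles^n` preserves monomorphisms. -/
theorem leftExact_iff_mono_opcycles (n : ℤ) :
    PreservesFiniteLimits (hom' Φ n) ↔
      ∀ S : ShortComplex A, S.ShortExact →
        Mono (HomologicalComplex.opcyclesMap (Φ.map S.f) n) := by
  rw [preservesFiniteLimits_iff_mono (exact_map_hom' hΦ n)]
  refine forall₂_congr fun S hS => ?_
  haveI := (hΦ S hS).mono_f
  haveI : Mono ((Φ.map S.f).f (n + 1)) :=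
    inferInstanceAs (Mono ((HomologicalComplex.eval B (ComplexShape.up ℤ) (n + 1)).map (S.map Φ).f))
  constructor
  · intro h
    haveI : Mono (HomologicalComplex.homologyMap (Φ.map S.f) n) := h
    refine Preadditive.mono_of_cancel_zero _ fun {T} g hg => ?_
    have hg0 : g ≫ (Φ.obj S.X₁).fromOpcycles n (n + 1) = 0 := by
      refine zero_of_comp_mono ((Φ.map S.f).f (n + 1)) ?_
      have hnat : (Φ.obj S.X₁).fromOpcycles n (n + 1) ≫ (Φ.map S.f).f (n + 1) =
          HomologicalComplex.opcyclesMap (Φ.map S.f) n ≫ (Φ.obj S.X₂).fromOpcycles n (n + 1) := by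
        rw [← cancel_epi ((Φ.obj S.X₁).pOpcycles n)]
        simp
      rw [Category.assoc, hnat, reassoc_of% hg, zero_comp]
    obtain ⟨l, hl⟩ := KernelFork.IsLimit.lift'
      ((Φ.obj S.X₁).homologyIsKernel n (n + 1) (by simp)) g hg0
    change l ≫ (Φ.obj S.X₁).homologyι n = g at hl
    have : l ≫ HomologicalComplex.homologyMap (Φ.map S.f) n = 0 := by
      refine zero_of_comp_mono ((Φ.obj S.X₂).homologyι n) ?_
      rw [Category.assoc, HomologicalComplex.homologyι_naturality, reassoc_of% hl, hg]
    rw [← hl, zero_of_comp_mono _ this, zero_comp]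
  · intro h
    have : Mono ((Φ.obj S.X₁).homologyι n ≫ HomologicalComplex.opcyclesMap (Φ.map S.f) n) :=
      mono_comp _ _
    rw [← HomologicalComplex.homologyι_naturality] at this
    exact mono_of_mono (HomologicalComplex.homologyMap (Φ.map S.f) n) ((Φ.obj S.X₂).homologyι n)

end

end Groth.Agent.Exact7
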