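import Groth.Agent.KFlatLib.Perfect.LocFreeLocus
import Groth.Agent.QCoh.LocFree
import Groth.Agent.Exact7.Shift

/-!
# Complexes of free modules with flat cokernels
-/

set_option linter.style.haveILetI false

universe u

open CategoryTheory CategoryTheory.Limits AlgebraicGeometry Module TensorProduct

attribute [local instance] HasDerivedCategory.standard

namespace Groth.Agent.Exact7

open KFlatLib

/-- The fibre rank of a map with free cokernel. -/
lemma rank_range_baseChange_add {R : Type*} [CommRing R] {A B C : Type*} [AddCommGroup A] [Module R A]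
    [AddCommGroup B] [Module R B] [AddCommGroup C] [Module R C] (k : Type*) [Field k] [Algebra R k]
    [Module.Finite R B] {f : A →ₗ[R] B} {g : B →ₗ[R] C} (h : Function.Exact f g)
    (hg : Function.Surjective g) :
    finrank k (LinearMap.range (f.baseChange k)) + finrank k (k ⊗[R] C) = finrank k (k ⊗[R] B) := by
  have h1 : Function.Exact (f.baseChange k) (g.baseChange k) := lTensor_exact k h hg
  have h2 : Function.Surjective (g.baseChange k) := LinearMap.lTensor_surjective k hg
  rw [← LinearMap.exact_iff.1 h1, ← (g.baseChange k).finrank_range_add_finrank_ker,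
    LinearMap.range_eq_top.2 h2, finrank_top, add_comm]

variable {U : Scheme.{u}}

/-- A map of free modules with flat cokernel has locally constant fibre rank. -/
theorem isLocallyConstant_rkAt {p q : ℕ} (d : FlatMod.freeMod U p ⟶ FlatMod.freeMod U q)
    (hflat : FlatMod.IsFlat (cokernel d)) : IsLocallyConstant fun y : U => rkAt (secMat d) y := by
  have hC : FlatMod.IsFinLocFree (cokernel d) :=
    isFinLocFree_cokernel d (fun x => isFinLocFree_freeMod p x) (fun x => isFinLocFree_freeMod q x) hflat
  have key : ∀ y : U, rkAt (secMat d) y =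
      q - finrank (U.presheaf.stalk y) ((cokernel d).presheaf.stalk y) := fun y => by
    let st := DerSch.stalkFunctor U y
    let R := U.presheaf.stalk y
    let k := IsLocalRing.ResidueField R
    haveI : IsLocalHom (U.residue y).hom := inferInstanceAs (IsLocalHom (IsLocalRing.residue _))
    haveI := (finite_free_stalk_freeMod y q).1
    haveI := (finite_free_stalk_freeMod y q).2.1
    haveI : Module.Free (U.presheaf.stalk y) ((cokernel d).presheaf.stalk y) :=
      QCoh.free_stalk_of_isFinLocFree hC y
    let S := ShortComplex.mk d (cokernel.π d) (cokernel.condition d)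
    have hS : (S.map st).Exact := (exact_iff_stalk S).1 (ShortComplex.exact_cokernel d) y
    have hr : finrank (IsLocalRing.ResidueField (U.presheaf.stalk y))
        (LinearMap.range ((st.map d).hom.baseChange (IsLocalRing.ResidueField (U.presheaf.stalk y)))) =
        rkAt (secMat d) y :=
      (finrank_range_extend y d (IsLocalRing.residue (U.presheaf.stalk y))).trans
        (rank_map_eq_rkAt (secMat d) y (IsLocalRing.residue (U.presheaf.stalk y)))
    have h := rank_range_baseChange_add (IsLocalRing.ResidueField (U.presheaf.stalk y))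
      (f := (st.map d).hom) (g := (st.map (cokernel.π d)).hom)
      ((ShortComplex.ShortExact.moduleCat_exact_iff_function_exact _).1 hS)
      ((ModuleCat.epi_iff_surjective _).1 inferInstance)
    rw [hr, Module.finrank_baseChange (R := IsLocalRing.ResidueField (U.presheaf.stalk y))
      (M' := (st.obj (FlatMod.freeMod U q) : Type u)), (finite_free_stalk_freeMod y q).2.2] at h
    have h' : finrank (IsLocalRing.ResidueField (U.presheaf.stalk y))
        (IsLocalRing.ResidueField (U.presheaf.stalk y) ⊗[U.presheaf.stalk y]
          (st.obj (cokernel d) : Type u)) =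
        finrank (U.presheaf.stalk y) ((cokernel d).presheaf.stalk y) := QCoh.finrank_fiber_eq y
    rw [h'] at h
    omega
  have : (fun y : U => rkAt (secMat d) y) =
      (fun r => q - r) ∘ fun y : U => finrank (U.presheaf.stalk y) ((cokernel d).presheaf.stalk y) :=
    funext key
  rw [this]
  exact (QCoh.isLocallyConstant_rank hC).comp _

/-- Homology between flat cokernels of free modules is finite locally free. -/
theorem isFinLocFree_homology {P : CochainComplex U.Modules ℤ} (hP : ∀ i, FlatMod.IsFinLocFree (P.X i))
    (p : ℤ) (h₀ : FlatMod.IsFlat (P.opcycles p)) (h₁ : FlatMod.IsFlat (P.opcycles (p + 1))) :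
    FlatMod.IsFinLocFree (P.homology p) := by
  have hop : ∀ n, FlatMod.IsFlat (P.opcycles n) → FlatMod.IsFinLocFree (P.opcycles n) := fun n hn => by
    let c := (cokernelIsCokernel (P.d (n - 1) n)).coconePointUniqueUpToIso
      (P.opcyclesIsCokernel (n - 1) n (by simp))
    exact H23.PullPush.isFinLocFree_of_iso c
      (isFinLocFree_cokernel _ (hP _) (hP _) (IsFlat.of_iso c.symm hn))
  let f := P.fromOpcycles p (p + 1)
  let π := P.pOpcycles (p + 1)
  -- the boundaries in degree `p + 1`
  let B := kernel π
  have hB : FlatMod.IsFinLocFree B := isFinLocFree_kernel π (hP _) (hop _ h₁)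
  let g : P.opcycles p ⟶ B := kernel.lift π f (by
    simp only [f, π]
    rw [← cancel_epi (P.pOpcycles p), HomologicalComplex.p_fromOpcycles_assoc,
      HomologicalComplex.d_pOpcycles, comp_zero])
  have hS : (ShortComplex.mk (P.d p (p + 1)) π (P.d_pOpcycles _ _)).Exact :=
    ShortComplex.exact_of_g_is_cokernel _ (P.opcyclesIsCokernel p (p + 1) (by simp))
  haveI : Epi (P.pOpcycles p ≫ g) := by
    have e : P.pOpcycles p ≫ g = kernel.lift π (P.d p (p + 1)) (P.d_pOpcycles _ _) := by
      rw [← cancel_mono (kernel.ι π), Category.assoc, kernel.lift_ι, kernel.lift_ι]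
      exact P.p_fromOpcycles _ _
    rw [e]
    exact (ShortComplex.exact_iff_epi_kernel_lift _).1 hS
  haveI : Epi g := epi_of_epi (P.pOpcycles p) g
  have hfg : f = g ≫ kernel.ι π := (kernel.lift_ι _ _ _).symm
  let e : P.homology p ≅ kernel g :=
    (P.homologyIsKernel p (p + 1) (by simp)).conePointUniqueUpToIso (limit.isLimit _) ≪≫
      kernelIsoOfEq hfg ≪≫ kernelCompMono g (kernel.ι π)
  exact H23.PullPush.isFinLocFree_of_iso e.symm (isFinLocFree_kernel g (hop p h₀) hB)

/-- Fibre ranks of a differential with flat cokernel. -/
theorem isLocallyConstant_dMat {P : CochainComplex U.Modules ℤ} {n : ℤ → ℕ}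
    (e : ∀ i, P.X i ≅ FlatMod.freeMod U (n i)) (a b : ℤ) (hab : a + 1 = b)
    (h : FlatMod.IsFlat (P.opcycles b)) : IsLocallyConstant fun y : U => rkAt (dMat e a b) y := by
  refine isLocallyConstant_rkAt _ (IsFlat.of_iso ?_ h)
  exact (P.opcyclesIsCokernel a b (by simp; omega)).coconePointUniqueUpToIso
      (cokernelIsCokernel (P.d a b)) ≪≫
    cokernel.mapIso (P.d a b) ((e a).inv ≫ P.d a b ≫ (e b).hom) (e a) (e b)
      (Iso.hom_inv_id_assoc (e a) _).symm

end Groth.Agent.Exact7
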