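import Groth.Agent.Exact7.Scheme
import Groth.Agent.Exact7.FreeLocus

/-!
# Exactness of `M ↦ H^p(M ⊗^L E)` and local freeness
-/

set_option linter.style.haveILetI false

universe u

open CategoryTheory CategoryTheory.Limits AlgebraicGeometry Module

attribute [local instance] HasDerivedCategory.standard

namespace Groth.Agent.Exact7

open KFlatLib

variable {X U : Scheme.{u}}

/-- Exactness makes the cokernels flat. -/
theorem flat_opcycles_of_exact (P : CochainComplex U.Modules ℤ) (hP : ∀ n, FlatMod.IsFlat (P.X n))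
    (p : ℤ) [PreservesFiniteLimits (hom' (phi DCoh.tensorBi P) p)]
    [PreservesFiniteColimits (hom' (phi DCoh.tensorBi P) p)] :
    FlatMod.IsFlat (P.opcycles p) ∧ FlatMod.IsFlat (P.opcycles (p + 1)) := by
  have hΦ := scheme_shortExact_phi P hP
  have h := (rightExact_iff_leftExact_succ hΦ p (p + 1) rfl).1 inferInstance
  exact ⟨isFlat_of_mono ((leftExact_phi_iff DCoh.tensorBi P hΦ p).1 inferInstance),
    isFlat_of_mono ((leftExact_phi_iff DCoh.tensorBi P hΦ (p + 1)).1 h)⟩

/-- The conclusion near a point, from flat cokernels. -/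
theorem locus_of_flat (E : DCoh.D X) [∀ x : X, DCoh.HasLpull (X.fromSpecResidueField x)]
    (j : U ⟶ X) [IsOpenImmersion j] {P : CochainComplex U.Modules ℤ} (hP : DCoh.IsKFlat P) {n : ℤ → ℕ}
    (e : ∀ i, P.X i ≅ FlatMod.freeMod U (n i)) {m : ℤ} (α : DerivedCategory.Q.obj P ⟶ (rho j).obj E)
    (hα : IsPcMap m α) (p : ℤ) (hp : m < p) (h₀ : FlatMod.IsFlat (P.opcycles p))
    (h₁ : FlatMod.IsFlat (P.opcycles (p + 1))) :
    FlatMod.IsFinLocFree ((DCoh.HD E p).restrict j) ∧
      IsLocallyConstant fun y : U => PerfD.betti E (j.base y) p := by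
  refine ⟨?_, ?_⟩
  · haveI := hα.1 p hp
    exact H23.PullPush.isFinLocFree_of_iso
      (((DerivedCategory.homologyFunctorFactors _ p).app P).symm ≪≫
        @asIso _ _ _ _ ((DerivedCategory.homologyFunctor U.Modules p).map α) (hα.1 p hp) ≪≫
        hdRhoIso j E p)
      (isFinLocFree_homology (fun i => H23.PullPush.isFinLocFree_of_iso (e i).symm
        fun x => isFinLocFree_freeMod _ x) p h₀ h₁)
  · have hf : ∀ y : U, PerfD.betti E (j.base y) p + rkAt (dMat e (p - 1) p) y +
        rkAt (dMat e p (p + 1)) y = n p := fun y =>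
      betti_formula E _ j y rfl hP e α hα (p - 1) p (p + 1) (by omega) rfl hp
    have ha := isLocallyConstant_dMat e (p - 1) p (by omega) h₀
    have hb := isLocallyConstant_dMat e p (p + 1) rfl h₁
    have : (fun y : U => PerfD.betti E (j.base y) p) =
        (fun z : ℕ × ℕ => n p - (z.1 + z.2)) ∘
          fun y : U => (rkAt (dMat e (p - 1) p) y, rkAt (dMat e p (p + 1)) y) := funext fun y => by
      have := hf y
      simp only [Function.comp_apply]
      omega
    rw [this]
    exact (ha.prodMk hb).comp _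

/-- Gluing the local conclusions. -/
theorem glue (E : DCoh.D X) [∀ x : X, DCoh.HasLpull (X.fromSpecResidueField x)] (p : ℤ)
    (h : ∀ x : X, ∃ (U : Scheme.{u}) (j : U ⟶ X) (_ : IsOpenImmersion j), x ∈ Set.range j.base ∧
      FlatMod.IsFinLocFree ((DCoh.HD E p).restrict j) ∧
      IsLocallyConstant fun y : U => PerfD.betti E (j.base y) p) :
    FlatMod.IsFinLocFree (DCoh.HD E p) ∧ IsLocallyConstant fun x : X => PerfD.betti E x p := by
  refine ⟨isFinLocFree_of_restrict fun x => ?_, (IsLocallyConstant.iff_exists_open _).2 fun x => ?_⟩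
  · obtain ⟨U, j, _, hx, hF, -⟩ := h x
    exact ⟨j.opensRange, hx, H23.PullPush.isFinLocFree_of_iso
      (restrict₂Iso (rangeHom j) j j.opensRange.ι (rangeHom_fac j) (DCoh.HD E p))
      (H23.PullPush.isFinLocFree_of_iso
        ((Scheme.Modules.restrictFunctorIsoPullback (rangeHom j)).symm.app _)
        (isFinLocFree_pullback (rangeHom j) hF))⟩
  · obtain ⟨U, j, _, ⟨y, rfl⟩, -, hc⟩ := h x
    obtain ⟨V, hV, hy, hVc⟩ := (IsLocallyConstant.iff_exists_open _).1 hc y
    exact ⟨j.base '' V, j.isOpenEmbedding.isOpenMap _ hV, ⟨y, hy, rfl⟩,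
      fun x ⟨z, hz, hzx⟩ => hzx ▸ hVc z hz⟩

end Groth.Agent.Exact7
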