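import Groth.Agent.KFlatLib.Single

/-!
# Tensoring an object placed in degree zero with a complex
-/

set_option linter.style.haveILetI false

universe v u

open CategoryTheory CategoryTheory.Limits

namespace Groth.Agent.Exact7

variable {C : Type u} [Category.{v} C] [Abelian C] [∀ S : Type, HasColimitsOfShape (Discrete S) C]
  (T : C ⥤ C ⥤ C) [T.Additive] [∀ Y, (T.obj Y).Additive]

/-- `M ↦ M ⊗ E`, termwise. -/
noncomputable def phi (E : CochainComplex C ℤ) : C ⥤ CochainComplex C ℤ where
  obj M := ((T.obj M).mapHomologicalComplex (ComplexShape.up ℤ)).obj E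
  map f := (NatTrans.mapHomologicalComplex (T.map f) (ComplexShape.up ℤ)).app E
  map_id M := by ext n; simp
  map_comp f g := by ext n; simp

instance (E : CochainComplex C ℤ) : (phi T E).Additive where
  map_add {M N f g} := by
    ext n
    simp [phi]
    rfl

section

variable (M : C) (E : CochainComplex C ℤ)

/-- The summand of `M[0] ⊗ E` in degree `n`. -/
noncomputable def leftSummand (n : ℤ) :
    (T.obj M).obj (E.X n) ⟶ (HomologicalComplex.mapBifunctor
      ((HomologicalComplex.single C (ComplexShape.up ℤ) 0).obj M) E T (ComplexShape.up ℤ)).X n :=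
  (T.map (HomologicalComplex.singleObjXSelf (ComplexShape.up ℤ) 0 M).inv).app (E.X n) ≫
    HomologicalComplex.ιMapBifunctor _ E T (ComplexShape.up ℤ) 0 n n (zero_add n)

instance isIso_leftSummand (n : ℤ) : IsIso (leftSummand T M E n) := by
  refine ⟨HomologicalComplex.mapBifunctorDesc (fun p q h =>
    if hp : p = 0 then
      eqToHom (by
        change p + q = n at h
        subst hp
        rw [show q = n by omega]) ≫
        (T.map (HomologicalComplex.singleObjXSelf (ComplexShape.up ℤ) 0 M).hom).app (E.X n)
    else 0), ?_, ?_⟩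
  · rw [leftSummand, Category.assoc, HomologicalComplex.ι_mapBifunctorDesc, dif_pos rfl,
      eqToHom_refl, Category.id_comp, ← NatTrans.comp_app, ← Functor.map_comp,
      Iso.inv_hom_id, CategoryTheory.Functor.map_id, NatTrans.id_app]
  · refine HomologicalComplex.mapBifunctor.hom_ext (fun p q h => ?_)
    rw [HomologicalComplex.ι_mapBifunctorDesc_assoc]
    by_cases hp : p = 0
    · subst hp
      obtain rfl : q = n := by
        change (0 : ℤ) + q = n at h
        omega
      rw [dif_pos rfl, leftSummand, eqToHom_refl, Category.id_comp, ← NatTrans.comp_app_assoc,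
        ← Functor.map_comp, Iso.hom_inv_id, CategoryTheory.Functor.map_id, NatTrans.id_app,
        Category.id_comp, Category.comp_id]
    · exact ((T.map_isZero (HomologicalComplex.isZero_single_obj_X (ComplexShape.up ℤ) 0 M p hp)).obj
        _).eq_of_src _ _

lemma leftSummand_d (n n' : ℤ) (hn : n + 1 = n') :
    leftSummand T M E n ≫
      (HomologicalComplex.mapBifunctor
        ((HomologicalComplex.single C (ComplexShape.up ℤ) 0).obj M) E T (ComplexShape.up ℤ)).d n n' =
    (T.obj M).map (E.d n n') ≫ leftSummand T M E n' := by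
  subst hn
  rw [leftSummand, HomologicalComplex.mapBifunctor.d_eq, Category.assoc, Preadditive.comp_add,
    HomologicalComplex.mapBifunctor.ι_D₁, HomologicalComplex.mapBifunctor.ι_D₂]
  rw [HomologicalComplex.mapBifunctor.d₁_eq' _ _ _ _
      (show (ComplexShape.up ℤ).Rel (0 : ℤ) (0 + 1) from rfl),
    HomologicalComplex.mapBifunctor.d₂_eq _ _ _ _ 0
      (show (ComplexShape.up ℤ).Rel n (n + 1) from rfl) (n + 1) (show (0 : ℤ) + (n + 1) = n + 1 by omega)]
  rw [HomologicalComplex.single_obj_d, Functor.map_zero, zero_app, zero_comp, smul_zero, zero_add]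
  have hε : ComplexShape.ε₂ (ComplexShape.up ℤ) (ComplexShape.up ℤ) (ComplexShape.up ℤ) ((0 : ℤ), n) = 1 :=
    Int.negOnePow_zero
  rw [hε, one_smul, leftSummand]
  rw [← NatTrans.naturality_assoc]

/-- `M[0] ⊗ E ≅ M ⊗ E` termwise. -/
noncomputable def singleLeftIso₀ :
    (phi T E).obj M ≅ (T.map₂CochainComplex.obj
      ((HomologicalComplex.single C (ComplexShape.up ℤ) 0).obj M)).obj E :=
  HomologicalComplex.Hom.isoOfComponents
    (fun n => @asIso _ _ _ _ (leftSummand T M E n) (isIso_leftSummand T M E n))
    (fun i j hij => leftSummand_d T M E i j hij)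

end

/-- `M[0] ⊗ E ≅ M ⊗ E`, natural in `M`. -/
noncomputable def singleLeftIso (E : CochainComplex C ℤ) :
    phi T E ≅ HomologicalComplex.single C (ComplexShape.up ℤ) 0 ⋙ T.map₂CochainComplex.flip.obj E :=
  NatIso.ofComponents (fun M => singleLeftIso₀ T M E) fun {M M'} f => by
    ext n
    change (T.map f).app (E.X n) ≫ leftSummand T M' E n =
      leftSummand T M E n ≫ (HomologicalComplex.mapBifunctorMap
        ((HomologicalComplex.single C (ComplexShape.up ℤ) 0).map f) (𝟙 E) T (ComplexShape.up ℤ)).f n
    simp only [leftSummand, Category.assoc]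
    erw [HomologicalComplex.ι_mapBifunctorMap]
    rw [← NatTrans.comp_app_assoc, ← Functor.map_comp, ← NatTrans.comp_app_assoc, ← Functor.map_comp,
      HomologicalComplex.single_map_f_self]
    simp

end Groth.Agent.Exact7
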