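import Groth.Agent.Exact7.Shift
import Groth.Agent.Exact7.SingleLeft
import Groth.Agent.KFlatLib.KFlat
import Mathlib.Algebra.Homology.DerivedCategory.TStructure

/-!
# The homology of a derived tensor product as a functor of the module
-/

set_option linter.style.haveILetI false

universe v u w

open CategoryTheory CategoryTheory.Limits

namespace Groth.Agent.Exact7

variable {C : Type u} [Category.{v} C] [Abelian C] [∀ S : Type, HasColimitsOfShape (Discrete S) C]
  [HasDerivedCategory.{w} C]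
  (T : C ⥤ C ⥤ C) [T.Additive] [∀ Y, (T.obj Y).Additive]

/-- A derived tensor product with `E`, evaluated on modules, is `M ↦ M ⊗ E'` for a K-flat replacement `E'`. -/
theorem nonempty_single_iso {E E' : CochainComplex C ℤ} (L : DerivedCategory C ⥤ DerivedCategory C)
    (κ : DerivedCategory.Q ⋙ L ⟶ T.map₂CochainComplex.flip.obj E ⋙ DerivedCategory.Q)
    (P : CochainComplex C ℤ ⥤ CochainComplex C ℤ) (ψ : P ⟶ 𝟭 _)
    (hψ : ∀ K, QuasiIso (ψ.app K)) (hκ : ∀ K, IsIso (κ.app (P.obj K)))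
    (β : E' ⟶ E) (hβ : ∀ K, QuasiIso ((T.map₂CochainComplex.obj (P.obj K)).map β))
    (hψE : ∀ K, QuasiIso ((T.map₂CochainComplex.flip.obj E').map (ψ.app K))) :
    Nonempty (DerivedCategory.singleFunctor C 0 ⋙ L ≅
      CochainComplex.singleFunctor C 0 ⋙ T.map₂CochainComplex.flip.obj E' ⋙ DerivedCategory.Q) := by
  let S := CochainComplex.singleFunctor C 0
  haveI := hψ
  haveI := hκ
  haveI : ∀ M, IsIso ((Functor.whiskerLeft S (Functor.whiskerRight ψ DerivedCategory.Q)).app M) :=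
    fun M => (DerivedCategory.isIso_Q_map_iff_quasiIso C (ψ.app (S.obj M))).2 (hψ _)
  haveI : IsIso (Functor.whiskerLeft S (Functor.whiskerRight ψ DerivedCategory.Q)) :=
    NatIso.isIso_of_isIso_app _
  haveI : ∀ M, IsIso ((Functor.whiskerLeft (S ⋙ P) κ).app M) := fun M => hκ _
  haveI : IsIso (Functor.whiskerLeft (S ⋙ P) κ) := NatIso.isIso_of_isIso_app _
  let γ : T.map₂CochainComplex.flip.obj E' ⟶ T.map₂CochainComplex.flip.obj E :=
    T.map₂CochainComplex.flip.map β
  haveI : ∀ M, IsIso ((Functor.whiskerLeft (S ⋙ P) (Functor.whiskerRight γ DerivedCategory.Q)).app M) :=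
    fun M => (DerivedCategory.isIso_Q_map_iff_quasiIso C _).2 (hβ _)
  haveI : IsIso (Functor.whiskerLeft (S ⋙ P) (Functor.whiskerRight γ DerivedCategory.Q)) :=
    NatIso.isIso_of_isIso_app _
  let δ : (S ⋙ P) ⋙ T.map₂CochainComplex.flip.obj E' ⋙ DerivedCategory.Q ⟶
      S ⋙ T.map₂CochainComplex.flip.obj E' ⋙ DerivedCategory.Q :=
    { app := fun M => DerivedCategory.Q.map ((T.map₂CochainComplex.flip.obj E').map (ψ.app (S.obj M)))
      naturality := fun M M' f => by
        simp only [Functor.comp_map, ← Functor.map_comp, ψ.naturality, Functor.id_map] }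
  haveI : ∀ M, IsIso (δ.app M) := fun M => (DerivedCategory.isIso_Q_map_iff_quasiIso C _).2 (hψE _)
  haveI : IsIso δ := NatIso.isIso_of_isIso_app _
  let e₀ : DerivedCategory.singleFunctor C 0 ≅ S ⋙ DerivedCategory.Q :=
    (SingleFunctors.evaluation _ _ 0).mapIso (DerivedCategory.singleFunctorsPostcompQIso C)
  exact ⟨Functor.isoWhiskerRight (e₀ ≪≫
      (@asIso _ _ _ _ (Functor.whiskerLeft S (Functor.whiskerRight ψ DerivedCategory.Q)) (by assumption)).symm) L ≪≫
    @asIso _ _ _ _ (Functor.whiskerLeft (S ⋙ P) κ) (by assumption) ≪≫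
    (@asIso _ _ _ _ (Functor.whiskerLeft (S ⋙ P) (Functor.whiskerRight γ DerivedCategory.Q)) (by assumption)).symm ≪≫
    asIso δ⟩

/-- `M ↦ H^i(M ⊗^L E)` is `M ↦ H^i(M ⊗ E')`. -/
theorem nonempty_homology_iso {E E' : CochainComplex C ℤ} (L : DerivedCategory C ⥤ DerivedCategory C)
    (κ : DerivedCategory.Q ⋙ L ⟶ T.map₂CochainComplex.flip.obj E ⋙ DerivedCategory.Q)
    (P : CochainComplex C ℤ ⥤ CochainComplex C ℤ) (ψ : P ⟶ 𝟭 _)
    (hψ : ∀ K, QuasiIso (ψ.app K)) (hκ : ∀ K, IsIso (κ.app (P.obj K)))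
    (β : E' ⟶ E) (hβ : ∀ K, QuasiIso ((T.map₂CochainComplex.obj (P.obj K)).map β))
    (hψE : ∀ K, QuasiIso ((T.map₂CochainComplex.flip.obj E').map (ψ.app K))) (i : ℤ) :
    Nonempty (DerivedCategory.singleFunctor C 0 ⋙ L ⋙ DerivedCategory.homologyFunctor C i ≅
      hom' (phi T E') i) := by
  obtain ⟨e⟩ := nonempty_single_iso T L κ P ψ hψ hκ β hβ hψE
  exact ⟨(Functor.associator _ _ _).symm ≪≫ Functor.isoWhiskerRight e _ ≪≫
    Functor.associator _ _ _ ≪≫ Functor.isoWhiskerLeft _ (Functor.associator _ _ _ ≪≫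
      Functor.isoWhiskerLeft _ (DerivedCategory.homologyFunctorFactors C i)) ≪≫
    (Functor.associator _ _ _).symm ≪≫ Functor.isoWhiskerRight (singleLeftIso T E').symm _⟩

lemma shortExact_phi (E : CochainComplex C ℤ) (hE : ∀ n, KFlatLib.FlatObj T (E.X n))
    (S : ShortComplex C) (hS : S.ShortExact) : (S.map (phi T E)).ShortExact :=
  (HomologicalComplex.shortExact_iff_degreewise_shortExact _).2 fun n => hE n S hS

end Groth.Agent.Exact7
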