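import Groth.Agent.Exact7.Criterion

/-!
# Free local models of a pseudo-coherent complex
-/

set_option linter.style.haveILetI false

universe u

open CategoryTheory CategoryTheory.Limits AlgebraicGeometry

attribute [local instance] HasDerivedCategory.standard

namespace Groth.Agent.Exact7

open KFlatLib

variable {X U : Scheme.{u}}

/-- A free local model computes `H^i(- ⊗ E)` above `m`. -/
theorem nonempty_model_iso {F E' : CochainComplex X.Modules ℤ} (β : E' ⟶ F) [QuasiIso β]
    (hE' : DCoh.IsKFlat E') (j : U ⟶ X) [IsOpenImmersion j] {P : CochainComplex U.Modules ℤ}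
    (hP : DCoh.IsKFlat P) {m : ℤ} (α : DerivedCategory.Q.obj P ⟶ (rho j).obj (DCoh.toD X F))
    (hα : IsPcMap m α) (i : ℤ) (hi : m < i) :
    Nonempty (hom' (phi DCoh.tensorBi P) i ≅ hom' (phi DCoh.tensorBi ((rCx j).obj E')) i) := by
  haveI : IsIso (DerivedCategory.Q.map β) := isIso_Q_map β inferInstance
  have h := hα.comp_iso (𝟙 _) (((rho j).mapIso (asIso (DerivedCategory.Q.map β))).inv ≫ (rhoQ j).hom.app E')
  exact scheme_iso_of_pcMap hP (isKFlat_restrict j hE') _ h i hi

end Groth.Agent.Exact7
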