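import Groth.Agent.Exact7.Shift
import Groth.Agent.Exact7.SingleLeft
import Mathlib.Algebra.Homology.ShortComplex.PreservesHomology

/-!
# Exact functors commuting with the tensor product commute with `M ↦ H^i(M ⊗ E)`
-/

set_option linter.style.haveILetI false
set_option linter.unusedSectionVars false

universe v v' u u'

open CategoryTheory CategoryTheory.Limits

namespace Groth.Agent.Exact7

variable {C : Type u} [Category.{v} C] [Abelian C] {C' : Type u'} [Category.{v'} C'] [Abelian C']

/-- Exact functors commute with homology, naturally in the complex. -/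
noncomputable def mapHomologyNatIso (R : C ⥤ C') [R.Additive] [R.PreservesHomology] (i : ℤ) :
    R.mapHomologicalComplex (ComplexShape.up ℤ) ⋙
        HomologicalComplex.homologyFunctor C' (ComplexShape.up ℤ) i ≅
      HomologicalComplex.homologyFunctor C (ComplexShape.up ℤ) i ⋙ R :=
  NatIso.ofComponents (fun K => (K.sc i).mapHomologyIso R)
    (fun {K L} φ => ShortComplex.mapHomologyIso_hom_naturality
      ((HomologicalComplex.shortComplexFunctor C (ComplexShape.up ℤ) i).map φ) R)

variable [∀ S : Type, HasColimitsOfShape (Discrete S) C] [∀ S : Type, HasColimitsOfShape (Discrete S) C']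
  (T : C ⥤ C ⥤ C) [T.Additive] [∀ Y, (T.obj Y).Additive]
  (T' : C' ⥤ C' ⥤ C') [T'.Additive] [∀ Y, (T'.obj Y).Additive]
  (R : C ⥤ C') [R.Additive]
  (e : T ⋙ (Functor.whiskeringRight _ _ _).obj R ≅ R ⋙ T' ⋙ (Functor.whiskeringLeft _ _ _).obj R)

/-- `R(M ⊗ E) = R M ⊗ R E`. -/
noncomputable def phiMapIso (E : CochainComplex C ℤ) :
    phi T E ⋙ R.mapHomologicalComplex (ComplexShape.up ℤ) ≅
      R ⋙ phi T' ((R.mapHomologicalComplex (ComplexShape.up ℤ)).obj E) :=
  NatIso.ofComponents (fun M => HomologicalComplex.Hom.isoOfComponents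
    (fun n => (e.app M).app (E.X n))
    (fun i j _ => ((e.app M).hom.naturality (E.d i j)).symm))
    (fun {M M'} f => by
      ext n
      exact NatTrans.congr_app (e.hom.naturality f) (E.X n))

/-- `R H^i(M ⊗ E) = H^i(R M ⊗ R E)`. -/
noncomputable def homMapIso [R.PreservesHomology] (E : CochainComplex C ℤ) (i : ℤ) :
    hom' (phi T E) i ⋙ R ≅ R ⋙ hom' (phi T' ((R.mapHomologicalComplex (ComplexShape.up ℤ)).obj E)) i :=
  Functor.associator _ _ _ ≪≫ Functor.isoWhiskerLeft _ (mapHomologyNatIso R i).symm ≪≫
    (Functor.associator _ _ _).symm ≪≫ Functor.isoWhiskerRight (phiMapIso T T' R e E) _ ≪≫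
    Functor.associator _ _ _

variable (L : C' ⥤ C) (η : L ⋙ R ≅ 𝟭 C')
include e η

/-- Left exactness passes along an exact functor with an exact section. -/
theorem leftExact_of_section [PreservesFiniteLimits R] [PreservesFiniteColimits R]
    [PreservesFiniteLimits L] (E : CochainComplex C ℤ) (i : ℤ)
    [PreservesFiniteLimits (hom' (phi T E) i)] :
    PreservesFiniteLimits (hom' (phi T' ((R.mapHomologicalComplex (ComplexShape.up ℤ)).obj E)) i) :=
  haveI : R.PreservesHomology := Functor.preservesHomologyOfExact R
  haveI : PreservesFiniteLimits (L ⋙ hom' (phi T E) i ⋙ R) := inferInstance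
  preservesFiniteLimits_of_natIso (Functor.isoWhiskerLeft L (homMapIso T T' R e E i) ≪≫
    (Functor.associator _ _ _).symm ≪≫ Functor.isoWhiskerRight η _ ≪≫ Functor.leftUnitor _)

/-- Right exactness passes along an exact functor with an exact section. -/
theorem rightExact_of_section [PreservesFiniteLimits R] [PreservesFiniteColimits R]
    [PreservesFiniteColimits L] (E : CochainComplex C ℤ) (i : ℤ)
    [PreservesFiniteColimits (hom' (phi T E) i)] :
    PreservesFiniteColimits (hom' (phi T' ((R.mapHomologicalComplex (ComplexShape.up ℤ)).obj E)) i) :=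
  haveI : R.PreservesHomology := Functor.preservesHomologyOfExact R
  haveI : PreservesFiniteColimits (L ⋙ hom' (phi T E) i ⋙ R) := inferInstance
  preservesFiniteColimits_of_natIso (Functor.isoWhiskerLeft L (homMapIso T T' R e E i) ≪≫
    (Functor.associator _ _ _).symm ≪≫ Functor.isoWhiskerRight η _ ≪≫ Functor.leftUnitor _)

end Groth.Agent.Exact7
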