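import Groth.Agent.Exact7.Shift
import Groth.Agent.Exact7.SingleLeft
import Mathlib.CategoryTheory.Limits.Preserves.Shapes.Kernels

/-!
# The opcycles of `M ⊗ E`
-/

set_option linter.style.haveILetI false
set_option linter.unusedSectionVars false

universe v u

open CategoryTheory CategoryTheory.Limits

namespace Groth.Agent.Exact7

variable {C : Type u} [Category.{v} C] [Abelian C] [∀ S : Type, HasColimitsOfShape (Discrete S) C]
  (T : C ⥤ C ⥤ C) [T.Additive] [∀ Y, (T.obj Y).Additive]
  [∀ Y, PreservesFiniteColimits (T.obj Y)]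

/-- `opcycles^n(M ⊗ E) ⟶ M ⊗ opcycles^n(E)` is an isomorphism, natural in `M`. -/
noncomputable def opcyclesToTensor (E : CochainComplex C ℤ) (M : C) (m n : ℤ) (h : m + 1 = n) :
    ((phi T E).obj M).opcycles n ⟶ (T.obj M).obj (E.opcycles n) :=
  HomologicalComplex.descOpcycles _ ((T.obj M).map (E.pOpcycles n)) m (by simp; omega)
    (by
      change (T.obj M).map (E.d m n) ≫ _ = 0
      rw [← Functor.map_comp, HomologicalComplex.d_pOpcycles, Functor.map_zero])

lemma isIso_opcyclesToTensor (E : CochainComplex C ℤ) (M : C) (m n : ℤ) (h : m + 1 = n) :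
    IsIso (opcyclesToTensor T E M m n h) := by
  have h₁ := ((phi T E).obj M).opcyclesIsCokernel m n (by simp; omega)
  have h₂ := isColimitCoforkMapOfIsColimit' (T.obj M) (E.d_pOpcycles m n)
    (E.opcyclesIsCokernel m n (by simp; omega))
  have he : opcyclesToTensor T E M m n h = (h₁.coconePointUniqueUpToIso h₂).hom := by
    rw [← cancel_epi (((phi T E).obj M).pOpcycles n)]
    refine Eq.trans ?_ (h₁.comp_coconePointUniqueUpToIso_hom h₂ WalkingParallelPair.one).symm
    exact HomologicalComplex.p_descOpcycles _ _ _ _ _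
  rw [he]
  infer_instance

lemma opcyclesToTensor_naturality (E : CochainComplex C ℤ) {M M' : C} (f : M ⟶ M') (m n : ℤ)
    (h : m + 1 = n) :
    HomologicalComplex.opcyclesMap ((phi T E).map f) n ≫ opcyclesToTensor T E M' m n h =
      opcyclesToTensor T E M m n h ≫ (T.map f).app (E.opcycles n) := by
  rw [← cancel_epi (((phi T E).obj M).pOpcycles n), HomologicalComplex.p_opcyclesMap_assoc]
  simp only [opcyclesToTensor]
  erw [HomologicalComplex.p_descOpcycles, HomologicalComplex.p_descOpcycles_assoc]
  exact ((T.map f).naturality _).symm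

/-- `opcycles^n` is injective on `f` iff `f ⊗ opcycles^n(E)` is injective. -/
theorem mono_opcyclesMap_iff (E : CochainComplex C ℤ) {M M' : C} (f : M ⟶ M') (n : ℤ) :
    Mono (HomologicalComplex.opcyclesMap ((phi T E).map f) n) ↔
      Mono ((T.map f).app (E.opcycles n)) := by
  haveI := isIso_opcyclesToTensor T E M (n - 1) n (by omega)
  haveI := isIso_opcyclesToTensor T E M' (n - 1) n (by omega)
  refine (MorphismProperty.monomorphisms C).arrow_mk_iso_iff (Arrow.isoMk
    (asIso (opcyclesToTensor T E M (n - 1) n _))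
    (asIso (opcyclesToTensor T E M' (n - 1) n _)) ?_)
  exact (opcyclesToTensor_naturality T E f (n - 1) n (by omega)).symm

/-- `H^n(- ⊗ E)` is left exact iff `- ⊗ opcycles^n(E)` preserves monomorphisms. -/
theorem leftExact_phi_iff (E : CochainComplex C ℤ)
    (hΦ : ∀ S : ShortComplex C, S.ShortExact → (S.map (phi T E)).ShortExact) (n : ℤ) :
    PreservesFiniteLimits (hom' (phi T E) n) ↔
      ∀ ⦃A B : C⦄ (f : A ⟶ B), Mono f → Mono ((T.map f).app (E.opcycles n)) := by
  rw [leftExact_iff_mono_opcycles hΦ n]
  constructor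
  · intro h A B f hf
    have hS : (ShortComplex.mk f (cokernel.π f) (cokernel.condition f)).ShortExact :=
      { exact := ShortComplex.exact_cokernel f }
    exact (mono_opcyclesMap_iff T E f n).1 (h _ hS)
  · intro h S hS
    exact (mono_opcyclesMap_iff T E S.f n).2 (h S.f hS.mono_f)

end Groth.Agent.Exact7
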