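import Groth.Agent.Exact7.Derived
import Groth.Agent.Exact7.Opcycles
import Groth.Agent.KFlatLib.Ring.Resolution
import Groth.Agent.KFlatLib.Derived
import Groth.Prelude.Def_DRing4

/-!
# The homology of `M ⊗^L E` over a ring
-/

set_option linter.style.haveILetI false

universe u

open CategoryTheory CategoryTheory.Limits MonoidalCategory

attribute [local instance] HasDerivedCategory.standard

noncomputable section

namespace Groth.Agent.Exact7

open KFlatLib

variable {A : Type u} [CommRing A]

/-- Flat resolutions compute `- ⊗^L E`. -/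
def ringResTensor (E : DRing.Cx A) :
    Resolution (HomologicalComplex.quasiIso (ModuleCat.{u} A) (ComplexShape.up ℤ)) (DRing.tensorCxQ A E) where
  Good := KFlat (curriedTensor (ModuleCat.{u} A))
  P := (ringCover A).P
  ψ := (ringCover A).ψ
  good := kFlat_ringRes
  weq K := (ringCover A).quasiIso_ψ K
  inverts _ _ α hP hQ hα := by
    haveI : QuasiIso α := hα
    haveI := quasiIso_tensor (ringCover A) flatObj_ringCover curriedTensorFlipIso α hP hQ E
    refine (DerivedCategory.isIso_Q_map_iff_quasiIso (ModuleCat.{u} A) _).2 ?_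
    exact (quasiIso_iff_of_arrow_mk_iso
      (((curriedTensor (ModuleCat.{u} A)).map₂CochainComplex.flip.obj E).map α)
      (((curriedTensor (ModuleCat.{u} A)).map₂CochainComplex.obj E).map α)
      (((Functor.mapArrowFunctor _ _).mapIso (symmIso curriedTensorFlipIso E)).app (Arrow.mk α))).2
        (by assumption)

set_option maxHeartbeats 1000000 in
/-- `M ↦ H^i(M ⊗^L E)` is `M ↦ H^i(M ⊗ E')` for a K-flat `E'` quasi-isomorphic to `E`. -/
theorem ring_homology_iso {E E' : DRing.Cx A} [DRing.HasLTensorCx A E] (β : E' ⟶ E) [QuasiIso β]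
    (hE' : KFlat (curriedTensor (ModuleCat.{u} A)) E') (i : ℤ) :
    Nonempty (DerivedCategory.singleFunctor (ModuleCat.{u} A) 0 ⋙ DRing.LTensorCx A E ⋙
      DerivedCategory.homologyFunctor (ModuleCat.{u} A) i ≅
        hom' (phi (curriedTensor (ModuleCat.{u} A)) E') i) :=
  nonempty_homology_iso (curriedTensor (ModuleCat.{u} A)) (DRing.LTensorCx A E)
    ((DRing.tensorCxQ A E).totalLeftDerivedCounit DerivedCategory.Q _)
    (ringResTensor E).P (ringResTensor E).ψ (ringResTensor E).weq
    (fun K => (ringResTensor E).isIso_totalLeftDerivedCounit DerivedCategory.Q ((ringResTensor E).good K))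
    β (fun K => KFlat.quasiIso_map' curriedTensorFlipIso ((ringResTensor E).good K) β)
    (fun K => haveI : QuasiIso ((ringResTensor E).ψ.app K) := (ringResTensor E).weq K
      KFlat.quasiIso_map (K := E') hE' ((ringResTensor E).ψ.app K)) i

/-- Termwise flatness makes `M ↦ M ⊗ E` exact. -/
theorem ring_shortExact_phi (E : DRing.Cx A) (hE : ∀ n, Module.Flat A (E.X n))
    (S : ShortComplex (ModuleCat.{u} A)) (hS : S.ShortExact) :
    (S.map (phi (curriedTensor (ModuleCat.{u} A)) E)).ShortExact :=
  shortExact_phi (curriedTensor (ModuleCat.{u} A)) E (fun n => haveI := hE n; flatObj_moduleCat _) S hS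

/-- Left exactness makes the opcycles flat. -/
theorem flat_opcycles_of_leftExact (E : DRing.Cx A) (hE : ∀ n, Module.Flat A (E.X n)) (n : ℤ)
    [PreservesFiniteLimits (hom' (phi (curriedTensor (ModuleCat.{u} A)) E) n)] :
    Module.Flat A (E.opcycles n) := by
  haveI : ∀ M : ModuleCat.{u} A, PreservesFiniteColimits ((curriedTensor (ModuleCat.{u} A)).obj M) :=
    fun M => inferInstanceAs (PreservesFiniteColimits (tensorLeft M))
  have h := (leftExact_phi_iff (curriedTensor (ModuleCat.{u} A)) E (ring_shortExact_phi E hE) n).1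
    inferInstance
  rw [Module.Flat.iff_rTensor_preserves_injective_linearMap]
  intro N N' _ _ _ _ f hf
  let g : ModuleCat.of A N ⟶ ModuleCat.of A N' := ModuleCat.ofHom f
  haveI : Mono g := (ModuleCat.mono_iff_injective g).2 hf
  exact (ModuleCat.mono_iff_injective _).1 (h g inferInstance)

end Groth.Agent.Exact7
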