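import Groth.Agent.Exact7.LocalData
import Groth.Agent.Exact7.RingTensor
import Groth.Agent.KFlatLib.Perfect.FiniteType
import Groth.Agent.QCoh.LocFree

/-!
# Left exactness at a stalk spreads to a neighbourhood
-/

set_option linter.style.haveILetI false

universe u

open CategoryTheory CategoryTheory.Limits AlgebraicGeometry MonoidalCategory

attribute [local instance] HasDerivedCategory.standard

noncomputable section

namespace Groth.Agent.Exact7

open KFlatLib

variable {X U : Scheme.{u}}

instance preservesHomology_stalkFunctor (x : X) : (DerSch.stalkFunctor X x).PreservesHomology :=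
  Functor.preservesHomology_of_map_exact _ fun S hS => (exact_iff_stalk S).1 hS x

/-- Stalks of `M ↦ H^i(M ⊗ E)`. -/
def stalkHomIso (E : CochainComplex X.Modules ℤ) (x : X) (i : ℤ) :
    hom' (phi DCoh.tensorBi E) i ⋙ DerSch.stalkFunctor X x ≅
      DerSch.stalkFunctor X x ⋙
        hom' (phi (curriedTensor (ModuleCat.{u} (X.presheaf.stalk x))) ((stalkCx x).obj E)) i :=
  homMapIso DCoh.tensorBi (curriedTensor (ModuleCat.{u} (X.presheaf.stalk x)))
    (DerSch.stalkFunctor X x) (stalkTensorBiIso x) E i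

/-- The stalk functor, recovered from skyscrapers. -/
def skyHomIso (E : CochainComplex X.Modules ℤ) (x : X) (i : ℤ) :
    sky x ⋙ hom' (phi DCoh.tensorBi E) i ⋙ DerSch.stalkFunctor X x ≅
      hom' (phi (curriedTensor (ModuleCat.{u} (X.presheaf.stalk x))) ((stalkCx x).obj E)) i :=
  Functor.isoWhiskerLeft _ (stalkHomIso E x i) ≪≫ (Functor.associator _ _ _).symm ≪≫
    Functor.isoWhiskerRight (skyStalkIso x) _ ≪≫ Functor.leftUnitor _

/-- Injectivity at a point of an open passes to the open. -/
lemma mono_stalk_restrict (j : U ⟶ X) [IsOpenImmersion j] (y : U) {M N : X.Modules} (f : M ⟶ N)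
    (h : Mono ((DerSch.stalkFunctor X (j.base y)).map f)) :
    Mono ((DerSch.stalkFunctor U y).map ((Scheme.Modules.restrictFunctor j).map f)) := by
  have hX : Mono ((Scheme.Modules.toPresheaf X ⋙
      TopCat.Presheaf.stalkFunctor Ab.{u} (j.base y)).map f) :=
    (AddCommGrpCat.mono_iff_injective _).2 ((ModuleCat.mono_iff_injective _).1 h)
  have hU : Mono ((Scheme.Modules.restrictFunctor j ⋙ Scheme.Modules.toPresheaf U ⋙
      TopCat.Presheaf.stalkFunctor Ab.{u} y).map f) :=
    ((MorphismProperty.monomorphisms _).arrow_mk_iso_iff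
      (((Functor.mapArrowFunctor _ _).mapIso (Scheme.Modules.restrictStalkNatIso j y)).app
        (Arrow.mk f))).2 hX
  exact (ModuleCat.mono_iff_injective _).2 ((AddCommGrpCat.mono_iff_injective _).1 hU)

/-- Flatness at a point of an open, from left exactness at the point. -/
theorem flat_stalk_of_leftExact (j : U ⟶ X) [IsOpenImmersion j] (y : U) {P : CochainComplex U.Modules ℤ}
    (hP : ∀ n, FlatMod.IsFlat (P.X n)) {E' : CochainComplex X.Modules ℤ} (p : ℤ)
    (e : hom' (phi DCoh.tensorBi P) p ≅ hom' (phi DCoh.tensorBi ((rCx j).obj E')) p)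
    [PreservesFiniteLimits (hom' (phi (curriedTensor (ModuleCat.{u} (X.presheaf.stalk (j.base y))))
      ((stalkCx (j.base y)).obj E')) p)] :
    Module.Flat (U.presheaf.stalk y) ((DerSch.stalkFunctor U y).obj (P.opcycles p) : Type u) := by
  let R := Scheme.Modules.restrictFunctor j
  let st := DerSch.stalkFunctor U y
  let G := hom' (phi DCoh.tensorBi E') p
  let H := hom' (phi DCoh.tensorBi ((rCx j).obj E')) p
  let A := U.presheaf.stalk y
  haveI : R.PreservesHomology := Functor.preservesHomologyOfExact R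
  let z : lsh j ⋙ G ⋙ R ≅ H :=
    Functor.isoWhiskerLeft (lsh j)
      (homMapIso DCoh.tensorBi DCoh.tensorBi R (restrictTensorBiIso j) E' p) ≪≫
    (Functor.associator _ _ _).symm ≪≫
    Functor.isoWhiskerRight (asIso (lshAdj j).unit).symm _ ≪≫ Functor.leftUnitor _
  let w : sky y ⋙ (lsh j ⋙ G ⋙ R) ⋙ st ≅
      hom' (phi (curriedTensor (ModuleCat.{u} (U.presheaf.stalk y))) ((stalkCx y).obj P)) p :=
    Functor.isoWhiskerLeft (sky y) (Functor.isoWhiskerRight (z ≪≫ e.symm) st) ≪≫ skyHomIso P y p
  have hPy : ∀ n, Module.Flat (U.presheaf.stalk y) (((stalkCx y).obj P).X n) := fun n => hP n y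
  have hΦ := ring_shortExact_phi ((stalkCx y).obj P) hPy
  haveI : PreservesFiniteLimits
      (hom' (phi (curriedTensor (ModuleCat.{u} (U.presheaf.stalk y))) ((stalkCx y).obj P)) p) := by
    rw [preservesFiniteLimits_iff_mono (exact_map_hom' hΦ p)]
    intro S hS
    have hs : (S.map (sky y)).ShortExact := shortExact_map_sky y hS
    haveI := hs.mono_f
    haveI : Mono ((lsh j).map ((sky y).map S.f)) := inferInstanceAs (Mono ((lsh j).map (S.map (sky y)).f))
    haveI h0 : Mono ((DerSch.stalkFunctor X (j.base y)).map ((lsh j).map ((sky y).map S.f))) := by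
      have hm : (ShortComplex.mk ((lsh j).map ((sky y).map S.f)) (cokernel.π _)
          (cokernel.condition _)).ShortExact := { exact := ShortComplex.exact_cokernel _ }
      exact ((shortExact_iff_stalk _).1 hm (j.base y)).mono_f
    haveI h1 : Mono ((DerSch.stalkFunctor X (j.base y)).map (G.map ((lsh j).map ((sky y).map S.f)))) :=
      ((MorphismProperty.monomorphisms _).arrow_mk_iso_iff
        (((Functor.mapArrowFunctor _ _).mapIso (stalkHomIso E' (j.base y) p)).app
          (Arrow.mk ((lsh j).map ((sky y).map S.f))))).2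
        (inferInstanceAs (Mono ((hom' (phi (curriedTensor (ModuleCat.{u} (X.presheaf.stalk (j.base y))))
          ((stalkCx (j.base y)).obj E')) p).map
            ((DerSch.stalkFunctor X (j.base y)).map ((lsh j).map ((sky y).map S.f))))))
    exact ((MorphismProperty.monomorphisms _).arrow_mk_iso_iff
      (((Functor.mapArrowFunctor _ _).mapIso w).app (Arrow.mk S.f))).1 (mono_stalk_restrict j y _ h1)
  have h' := flat_opcycles_of_leftExact ((stalkCx y).obj P) hPy p
  exact (Module.Flat.equiv_iff ((P.sc p).mapOpcyclesIso st).toLinearEquiv).1 h'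

/-- Isomorphic complexes give the same functor. -/
def phiCongr {C : Type*} [Category C] [Abelian C] [∀ S : Type, HasColimitsOfShape (Discrete S) C]
    {T : C ⥤ C ⥤ C} [T.Additive] [∀ Y, (T.obj Y).Additive] {E E' : CochainComplex C ℤ} (e : E ≅ E') :
    phi T E ≅ phi T E' :=
  NatIso.ofComponents (fun M => ((T.obj M).mapHomologicalComplex (ComplexShape.up ℤ)).mapIso e)
    fun {M N} g => by
      ext n
      exact ((T.map g).naturality (e.hom.f n)).symm

/-- Left exactness at a point spreads out. -/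
theorem exists_nhd_leftExact {F E' : CochainComplex X.Modules ℤ} (β : E' ⟶ F) [QuasiIso β]
    (hE' : DCoh.IsKFlat E') (p : ℤ) (hF : LocPC (p - 1) (DCoh.toD X F)) (x : X)
    [PreservesFiniteLimits (hom' (phi (curriedTensor (ModuleCat.{u} (X.presheaf.stalk x)))
      ((stalkCx x).obj E')) p)] :
    ∃ V : X.Opens, x ∈ V ∧
      PreservesFiniteLimits (hom' (phi DCoh.tensorBi ((rCx V.ι).obj E')) p) := by
  obtain ⟨U, j, _, ⟨y, rfl⟩, P, n, e, α, hP, hα⟩ := exists_betti_data (DCoh.toD X F) hF x
  have hfl : ∀ i, FlatMod.IsFlat (P.X i) := fun i => IsFlat.of_iso (e i).symm (isFlat_freeMod (n i))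
  obtain ⟨e₀⟩ := nonempty_model_iso β hE' j hP α hα p (sub_one_lt p)
  haveI hflat := flat_stalk_of_leftExact j y hfl p e₀
  -- `P.opcycles p` is finitely presented, so free near `y`
  have hFP : CohB1.IsFP (P.opcycles p) := KFlatLib.isFP_of_free fun z => by
    refine ⟨⊤, n (p - 1), n p,
      ((Scheme.Modules.restrictFunctorIsoPullback _).app _ ≪≫ pullFreeIso _ (n (p - 1))).inv ≫
        (Scheme.Modules.restrictFunctor (⊤ : U.Opens).ι).map ((e (p - 1)).inv ≫ P.d (p - 1) p ≫ (e p).hom) ≫
        ((Scheme.Modules.restrictFunctorIsoPullback _).app _ ≪≫ pullFreeIso _ (n p)).hom,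
      trivial, ⟨?_⟩⟩
    exact (cokernel.mapIso _ _ ((Scheme.Modules.restrictFunctorIsoPullback _).app _ ≪≫ pullFreeIso _ (n (p - 1))).symm
        ((Scheme.Modules.restrictFunctorIsoPullback _).app _ ≪≫ pullFreeIso _ (n p)).symm (by simp)) ≪≫
      (PreservesCokernel.iso (Scheme.Modules.restrictFunctor (⊤ : U.Opens).ι) _).symm ≪≫
      (Scheme.Modules.restrictFunctor (⊤ : U.Opens).ι).mapIso
        ((cokernel.mapIso (P.d (p - 1) p) ((e (p - 1)).inv ≫ P.d (p - 1) p ≫ (e p).hom)
          (e (p - 1)) (e p) (Iso.hom_inv_id_assoc (e (p - 1)) _).symm).symm ≪≫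
        (cokernelIsCokernel (P.d (p - 1) p)).coconePointUniqueUpToIso
          (P.opcyclesIsCokernel (p - 1) p (by simp)))
  haveI : Module.Finite (U.presheaf.stalk y) ((DerSch.stalkFunctor U y).obj (P.opcycles p) : Type u) :=
    QCoh.finite_stalk_of_isFT (QCoh.isQCoh_of_isFP hFP) (QCoh.isFT_of_isFP hFP) y
  haveI : Module.Free (U.presheaf.stalk y) ((P.opcycles p).presheaf.stalk y) :=
    (Module.free_of_flat_of_isLocalRing :
      Module.Free (U.presheaf.stalk y) ((DerSch.stalkFunctor U y).obj (P.opcycles p) : Type u))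
  obtain ⟨W, r, hyW, ⟨eW⟩⟩ := QCoh.exists_free_nhd_of_free_stalk hFP y
  let RW := Scheme.Modules.restrictFunctor W.ι
  haveI : RW.PreservesHomology := Functor.preservesHomologyOfExact RW
  let PW := (rCx W.ι).obj P
  have hPW : ∀ i, FlatMod.IsFlat (PW.X i) := fun i =>
    IsFlat.of_iso ((Scheme.Modules.restrictFunctorIsoPullback W.ι).symm.app (P.X i))
      (isFlat_pullback W.ι (hfl i))
  have hW : FlatMod.IsFlat (PW.opcycles p) :=
    IsFlat.of_iso (((P.sc p).mapOpcyclesIso RW) ≪≫ eW).symm (isFlat_freeMod r)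
  haveI : PreservesFiniteLimits (hom' (phi DCoh.tensorBi PW) p) :=
    (leftExact_phi_iff DCoh.tensorBi PW (scheme_shortExact_phi PW hPW) p).2 fun A B f hf => by
      have hS : (ShortComplex.mk f (cokernel.π f) (cokernel.condition f)).ShortExact :=
        { exact := ShortComplex.exact_cokernel f, mono_f := hf }
      exact (flatObj_of_isFlat hW _ hS).mono_f
  let k : (W : Scheme.{u}) ⟶ X := W.ι ≫ j
  obtain ⟨e₁⟩ := nonempty_model_iso β hE' k (P := PW) (isKFlat_restrict W.ι hP)
    (((rhoQ W.ι).app P).inv ≫ (rho W.ι).map α ≫ (rhoComp W.ι j k rfl (DCoh.toD X F)).hom)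
    ((hα.map_exact _).comp_iso _ _) p (sub_one_lt p)
  haveI := preservesFiniteLimits_of_natIso e₁
  let i : (k.opensRange : Scheme.{u}) ⟶ W := k.isoOpensRange.inv
  haveI := leftExact_restrict i ((rCx k).obj E') p
  have hi : i ≫ k = k.opensRange.ι := k.isoOpensRange_inv_comp
  let er : Scheme.Modules.restrictFunctor k ⋙ Scheme.Modules.restrictFunctor i ≅
      Scheme.Modules.restrictFunctor k.opensRange.ι :=
    (Scheme.Modules.restrictFunctorComp i k).symm ≪≫ Scheme.Modules.restrictFunctorCongr hi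
  haveI : PreservesFiniteLimits (hom' (phi DCoh.tensorBi
      (((Scheme.Modules.restrictFunctor k ⋙ Scheme.Modules.restrictFunctor i).mapHomologicalComplex
        (ComplexShape.up ℤ)).obj E')) p) := leftExact_restrict i ((rCx k).obj E') p
  refine ⟨k.opensRange, ⟨⟨y, hyW⟩, rfl⟩, preservesFiniteLimits_of_natIso
    (Functor.isoWhiskerRight (phiCongr ((NatIso.mapHomologicalComplex er (ComplexShape.up ℤ)).app E'))
      (HomologicalComplex.homologyFunctor _ (ComplexShape.up ℤ) p))⟩

end Groth.Agent.Exact7
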