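import Groth.Agent.Exact7.Derived
import Groth.Agent.KFlatLib.Bounded
import Groth.Agent.KFlatLib.Setup
import Groth.Agent.KFlatLib.Perfect.Tri
import Mathlib.Algebra.Homology.DerivedCategory.Fractions

/-!
# Truncated quasi-isomorphisms and `M ↦ H^i(M ⊗ E)`
-/

set_option linter.style.haveILetI false
set_option linter.unusedSectionVars false

universe v u

open CategoryTheory CategoryTheory.Limits

attribute [local instance] HasDerivedCategory.standard

namespace Groth.Agent.Exact7

open KFlatLib

variable {C : Type u} [Category.{v} C] [Abelian C] [∀ S : Type, HasColimitsOfShape (Discrete S) C]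
  [HasColimitsOfShape ℕ C] [HasExactColimitsOfShape ℕ C]
  [∀ S : Type, HasExactColimitsOfShape (Discrete S) C]
  {T : C ⥤ C ⥤ C} [T.Additive] [∀ Y, (T.obj Y).Additive]
  [∀ Y, PreservesColimitsOfShape ℕ (T.obj Y)]
  [∀ (S : Type) Y, PreservesColimitsOfShape (Discrete S) (T.obj Y)]
  (c : FlatCover C) (hflat : ∀ M, c.Flat M → FlatObj T M) (e : T.flip ≅ T)

include c hflat e

/-- An acyclic K-flat complex stays acyclic after tensoring with a module. -/
lemma acyclic_phi {K : CochainComplex C ℤ} (hK : KFlat T K) (hac : K.Acyclic) (M : C) :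
    ((phi T K).obj M).Acyclic := by
  let S := (HomologicalComplex.single C (ComplexShape.up ℤ) 0).obj M
  haveI : QuasiIso (c.ψ.app S) := c.quasiIso_ψ S
  have hP : KFlat T (c.P.obj S) := c.kFlat_P hflat S
  have h₁ : ((T.map₂CochainComplex.obj (c.P.obj S)).obj K).Acyclic := by
    have h := hP.acyclic hac
    rw [acyclic_iff_isZero] at h ⊢
    exact fun i => (h i).of_iso ((HomologicalComplex.homologyFunctor C _ i).mapIso
      ((symmIso e (c.P.obj S)).app K).symm)
  haveI := hK.quasiIso_map (c.ψ.app S)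
  rw [acyclic_iff_isZero] at h₁ ⊢
  exact fun i => ((h₁ i).of_iso (@isoOfQuasiIsoAt _ _ _ _ _ _ _ ((T.map₂CochainComplex.map (c.ψ.app S)).app K) i _ _
    inferInstance).symm).of_iso ((HomologicalComplex.homologyFunctor C _ i).mapIso (singleLeftIso₀ T M K))

/-- A K-flat complex with cohomology below `m` stays so after tensoring with a module. -/
lemma isZero_homology_phi {K : CochainComplex C ℤ} (hK : KFlat T K) (m : ℤ)
    (hm : ∀ i, m ≤ i → IsZero (K.homology i)) (M : C) (i : ℤ) (hi : m ≤ i) :
    IsZero (((phi T K).obj M).homology i) := by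
  obtain ⟨B, ψ, hψ, hfl, hz⟩ := c.exists_bounded_resolution K (m - 1) (fun j hj => hm j (by omega))
  haveI : B.IsStrictlyLE (m - 1) := (CochainComplex.isStrictlyLE_iff B (m - 1)).2 hz
  haveI := hψ
  have hB : KFlat T B := kFlat_of_isStrictlyLE (m - 1) fun n => hflat _ (hfl n)
  have hc : (CochainComplex.mappingCone ψ).Acyclic := by
    rw [acyclic_iff_isZero]
    intro j
    exact (isPcMap_iff_cone (C := C) (j - 1) ψ).1 ⟨fun k _ => by
      haveI : IsIso (DerivedCategory.Q.map ψ) :=
        (DerivedCategory.isIso_Q_map_iff_quasiIso C ψ).2 hψ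
      infer_instance, by
      haveI : IsIso (DerivedCategory.Q.map ψ) :=
        (DerivedCategory.isIso_Q_map_iff_quasiIso C ψ).2 hψ
      infer_instance⟩ j (by omega)
  have h := acyclic_phi c hflat e (kFlat_cone ψ hB hK) hc M
  haveI : QuasiIso (((T.obj M).mapHomologicalComplex (ComplexShape.up ℤ)).map ψ) :=
    quasiIso_of_acyclic_cone _ (by
      rw [acyclic_iff_isZero] at h ⊢
      exact fun j => (h j).of_iso ((HomologicalComplex.homologyFunctor C _ j).mapIso
        (CochainComplex.mappingCone.mapHomologicalComplexIso ψ (T.obj M))).symm)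
  exact IsZero.of_iso (ShortComplex.isZero_homology_of_isZero_X₂ _
      ((T.obj M).map_isZero (hz i (by omega))))
    (isoOfQuasiIsoAt (((T.obj M).mapHomologicalComplex (ComplexShape.up ℤ)).map ψ) i).symm

/-- The map induced in the second variable. -/
noncomputable def phiMap {E E' : CochainComplex C ℤ} (φ : E ⟶ E') : phi T E ⟶ phi T E' where
  app M := ((T.obj M).mapHomologicalComplex (ComplexShape.up ℤ)).map φ
  naturality M N g := by
    ext n
    exact ((T.map g).naturality (φ.f n)).symm

/-- A map of K-flat complexes whose cone lives below `m` identifies `H^i(- ⊗ E)` for `i > m`. -/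
lemma nonempty_iso_of_cone {E E' : CochainComplex C ℤ} (hE : KFlat T E) (hE' : KFlat T E')
    (φ : E ⟶ E') {m : ℤ} (h : IsPcMap m (DerivedCategory.Q.map φ)) (i : ℤ) (hi : m < i) :
    Nonempty (hom' (phi T E) i ≅ hom' (phi T E') i) := by
  have hz := (isPcMap_iff_cone (C := C) m φ).1 h
  haveI : ∀ M, IsIso ((Functor.whiskerRight (phiMap (T := T) φ)
      (HomologicalComplex.homologyFunctor C (ComplexShape.up ℤ) i)).app M) := fun M => by
    have h' : IsPcMap m (DerivedCategory.Q.map
        (((T.obj M).mapHomologicalComplex (ComplexShape.up ℤ)).map φ)) :=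
      (isPcMap_iff_cone (C := C) m _).2 fun j hj =>
        (isZero_homology_phi c hflat e (kFlat_cone φ hE hE') m hz M j hj).of_iso
          ((HomologicalComplex.homologyFunctor C _ j).mapIso
            (CochainComplex.mappingCone.mapHomologicalComplexIso φ (T.obj M))).symm
    haveI := h'.1 i hi
    exact ((MorphismProperty.isomorphisms C).arrow_mk_iso_iff
      (((Functor.mapArrowFunctor _ _).mapIso (DerivedCategory.homologyFunctorFactors C i)).app
        (Arrow.mk (((T.obj M).mapHomologicalComplex (ComplexShape.up ℤ)).map φ)))).1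
          (inferInstanceAs (IsIso ((DerivedCategory.homologyFunctor C i).map (DerivedCategory.Q.map
            (((T.obj M).mapHomologicalComplex (ComplexShape.up ℤ)).map φ)))))
  haveI : IsIso (Functor.whiskerRight (phiMap (T := T) φ)
      (HomologicalComplex.homologyFunctor C (ComplexShape.up ℤ) i)) := NatIso.isIso_of_isIso_app _
  exact ⟨asIso (Functor.whiskerRight (phiMap (T := T) φ)
    (HomologicalComplex.homologyFunctor C (ComplexShape.up ℤ) i))⟩

/-- A map in the derived category of K-flat complexes with cone below `m` identifies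
`H^i(- ⊗ E)` for `i > m`. -/
theorem nonempty_iso_of_pcMap {E E' : CochainComplex C ℤ} (hE : KFlat T E) (hE' : KFlat T E')
    {m : ℤ} (α : DerivedCategory.Q.obj E ⟶ DerivedCategory.Q.obj E') (h : IsPcMap m α)
    (i : ℤ) (hi : m < i) :
    Nonempty (hom' (phi T E) i ≅ hom' (phi T E') i) := by
  obtain ⟨E₁, s, hs, φ, rfl⟩ := DerivedCategory.right_fac α
  haveI : QuasiIso (c.ψ.app E₁) := c.quasiIso_ψ E₁
  have hP : KFlat T (c.P.obj E₁) := c.kFlat_P hflat E₁
  haveI : IsIso (DerivedCategory.Q.map (c.ψ.app E₁)) :=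
    (DerivedCategory.isIso_Q_map_iff_quasiIso C _).2 (c.quasiIso_ψ E₁)
  haveI := hs
  haveI : IsIso (DerivedCategory.Q.map (c.ψ.app E₁ ≫ s)) := by
    rw [Functor.map_comp]
    exact IsIso.comp_isIso' inferInstance inferInstance
  obtain ⟨e₁⟩ := nonempty_iso_of_cone c hflat e hP hE (c.ψ.app E₁ ≫ s) (isPcMap_of_isIso m _) i hi
  have h₂ : IsPcMap m (DerivedCategory.Q.map (c.ψ.app E₁ ≫ φ)) := by
    have h' := h.comp_iso (DerivedCategory.Q.map (c.ψ.app E₁ ≫ s)) (𝟙 _)
    simpa using h'
  obtain ⟨e₂⟩ := nonempty_iso_of_cone c hflat e hP hE' (c.ψ.app E₁ ≫ φ) h₂ i hi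
  exact ⟨e₁.symm ≪≫ e₂⟩

end Groth.Agent.Exact7
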