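import Groth.Agent.Exact7.LocalData
import Groth.Agent.QCoh.Qcqs
import Groth.Agent.QCohSupX.Largest
import Groth.Agent.KFlatLib.Scheme.Tilde
import Groth.Prelude.Def_QCohCat

/-!
# Exactness tested on quasi-coherent modules
-/

set_option linter.style.haveILetI false

universe u

open CategoryTheory CategoryTheory.Limits AlgebraicGeometry MonoidalCategory

attribute [local instance] HasDerivedCategory.standard

noncomputable section

namespace Groth.Agent.Exact7

open KFlatLib

variable {X U : Scheme.{u}}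

/-- Monomorphisms of quasi-coherent modules go to monomorphisms. -/
def MonoQ {B : Type*} [Category B] (G : X.Modules ⥤ B) : Prop :=
  ∀ ⦃M N : X.Modules⦄ (f : M ⟶ N), Coh.IsQCoh M → Coh.IsQCoh N → Mono f → Mono (G.map f)

/-- Epimorphisms of quasi-coherent modules go to epimorphisms. -/
def EpiQ {B : Type*} [Category B] (G : X.Modules ⥤ B) : Prop :=
  ∀ ⦃M N : X.Modules⦄ (g : M ⟶ N), Coh.IsQCoh M → Coh.IsQCoh N → Epi g → Epi (G.map g)

section Basic

variable {B : Type*} [Category B] {G G' : X.Modules ⥤ B}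

lemma MonoQ.of_iso (e : G ≅ G') (h : MonoQ G) : MonoQ G' := fun _ _ f hM hN hf =>
  ((MorphismProperty.monomorphisms B).arrow_mk_iso_iff
    (((Functor.mapArrowFunctor _ _).mapIso e).app (Arrow.mk f))).1 (h f hM hN hf)

lemma EpiQ.of_iso (e : G ≅ G') (h : EpiQ G) : EpiQ G' := fun _ _ f hM hN hf =>
  ((MorphismProperty.epimorphisms B).arrow_mk_iso_iff
    (((Functor.mapArrowFunctor _ _).mapIso e).app (Arrow.mk f))).1 (h f hM hN hf)

lemma monoQ_of_preserves [PreservesFiniteLimits ((QCohCat.isQCoh X).ι ⋙ G)] : MonoQ G :=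
  fun M N f hM hN hf => by
    let f' : (⟨M, hM⟩ : QCohCat.QCoh X) ⟶ ⟨N, hN⟩ := (QCohCat.isQCoh X).fullyFaithfulι.preimage f
    have h1 : (QCohCat.isQCoh X).ι.map f' = f := (QCohCat.isQCoh X).fullyFaithfulι.map_preimage (X := (⟨M, hM⟩ : QCohCat.QCoh X)) (Y := ⟨N, hN⟩) f
    haveI : Mono ((QCohCat.isQCoh X).ι.map f') := by rw [h1]; exact hf
    haveI : Mono f' := (QCohCat.isQCoh X).ι.mono_of_mono_map inferInstance
    have h2 : Mono (((QCohCat.isQCoh X).ι ⋙ G).map f') := inferInstance
    rwa [Functor.comp_map, h1] at h2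

lemma epiQ_of_preserves [PreservesFiniteColimits ((QCohCat.isQCoh X).ι ⋙ G)] : EpiQ G :=
  fun M N f hM hN hf => by
    let f' : (⟨M, hM⟩ : QCohCat.QCoh X) ⟶ ⟨N, hN⟩ := (QCohCat.isQCoh X).fullyFaithfulι.preimage f
    have h1 : (QCohCat.isQCoh X).ι.map f' = f := (QCohCat.isQCoh X).fullyFaithfulι.map_preimage (X := (⟨M, hM⟩ : QCohCat.QCoh X)) (Y := ⟨N, hN⟩) f
    haveI : Epi ((QCohCat.isQCoh X).ι.map f') := by rw [h1]; exact hf
    haveI : Epi f' := (QCohCat.isQCoh X).ι.epi_of_epi_map inferInstance
    have h2 : Epi (((QCohCat.isQCoh X).ι ⋙ G).map f') := inferInstance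
    rwa [Functor.comp_map, h1] at h2

end Basic

/-- Left and right exactness on quasi-coherent modules restrict along qcqs open immersions. -/
theorem restrictQ (j : U ⟶ X) [IsOpenImmersion j] [QuasiCompact j]
    (E : CochainComplex X.Modules ℤ) (i : ℤ) :
    (MonoQ (hom' (phi DCoh.tensorBi E) i) →
      MonoQ (hom' (phi DCoh.tensorBi ((rCx j).obj E)) i)) ∧
    (EpiQ (hom' (phi DCoh.tensorBi E) i) →
      EpiQ (hom' (phi DCoh.tensorBi ((rCx j).obj E)) i)) := by
  let R := Scheme.Modules.restrictFunctor j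
  let P := Scheme.Modules.pushforward j
  let η : P ⋙ R ≅ 𝟭 _ := asIso (Scheme.Modules.restrictAdjunction j).counit
  let G := hom' (phi DCoh.tensorBi E) i
  let G' := hom' (phi DCoh.tensorBi ((rCx j).obj E)) i
  haveI : R.PreservesHomology := Functor.preservesHomologyOfExact R
  let e : G ⋙ R ≅ R ⋙ G' := homMapIso DCoh.tensorBi DCoh.tensorBi R (restrictTensorBiIso j) E i
  let z : P ⋙ G ⋙ R ≅ G' := Functor.isoWhiskerLeft P e ≪≫ (Functor.associator _ _ _).symm ≪≫
    Functor.isoWhiskerRight η _ ≪≫ Functor.leftUnitor _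
  refine ⟨fun h M N f hM hN hf => ?_, fun h M N g hM hN hg => ?_⟩
  · haveI := hf
    haveI : Mono (P.map f) := inferInstance
    haveI := h (P.map f) (QCoh.isQCoh_pushforward j hM) (QCoh.isQCoh_pushforward j hN) inferInstance
    exact ((MorphismProperty.monomorphisms _).arrow_mk_iso_iff
      (((Functor.mapArrowFunctor _ _).mapIso z).app (Arrow.mk f))).1
      (inferInstanceAs (Mono (R.map (G.map (P.map f)))))
  · have hPM := QCoh.isQCoh_pushforward j hM
    have hPN := QCoh.isQCoh_pushforward j hN
    let p := factorThruImage (P.map g)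
    let ι := Limits.image.ι (P.map g)
    haveI : Epi (R.map (P.map g)) :=
      ((MorphismProperty.epimorphisms _).arrow_mk_iso_iff
        (((Functor.mapArrowFunctor _ _).mapIso η).app (Arrow.mk g))).2 hg
    haveI : Epi (R.map p ≫ R.map ι) := by
      rw [← R.map_comp, Limits.image.fac]; infer_instance
    haveI : Epi (R.map ι) := epi_of_epi (R.map p) _
    haveI : IsIso (R.map ι) := isIso_of_mono_of_epi _
    haveI := h p hPM (QCohSupX.isQCoh_image hPM hPN _) inferInstance
    haveI : IsIso (R.map (G.map ι)) :=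
      ((MorphismProperty.isomorphisms _).arrow_mk_iso_iff
        (((Functor.mapArrowFunctor _ _).mapIso e).app (Arrow.mk ι))).2
        (inferInstanceAs (IsIso (G'.map (R.map ι))))
    refine ((MorphismProperty.epimorphisms _).arrow_mk_iso_iff
      (((Functor.mapArrowFunctor _ _).mapIso z).app (Arrow.mk g))).1 ?_
    show Epi (R.map (G.map (P.map g)))
    rw [← Limits.image.fac (P.map g), G.map_comp, R.map_comp]
    exact epi_comp' (inferInstanceAs (Epi (R.map (G.map p)))) inferInstance

/-- Right exactness in degree `p` gives left exactness in degree `p + 1` on quasi-coherent modules. -/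
theorem monoQ_succ (E : CochainComplex X.Modules ℤ) (hE : ∀ n, FlatMod.IsFlat (E.X n)) (p : ℤ)
    (h : EpiQ (hom' (phi DCoh.tensorBi E) p)) : MonoQ (hom' (phi DCoh.tensorBi E) (p + 1)) := by
  intro M N f hM hN hf
  let S := ShortComplex.mk f (cokernel.π f) (cokernel.condition f)
  have hS : S.ShortExact := { exact := ShortComplex.exact_cokernel f, mono_f := hf }
  have hΦ := scheme_shortExact_phi E hE S hS
  exact (hΦ.homology_exact₁ p (p + 1) rfl).mono_g_iff.2
    ((hΦ.homology_exact₃ p (p + 1) rfl).epi_f_iff.1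
      (h (cokernel.π f) hN (QCoh.isQCoh_cokernel hM hN f) inferInstance))

/-- Left exactness on quasi-coherent modules makes the opcycles preserve injections. -/
theorem monoQ_tensor_opcycles (E : CochainComplex X.Modules ℤ) (hE : ∀ n, FlatMod.IsFlat (E.X n))
    (n : ℤ) (h : MonoQ (hom' (phi DCoh.tensorBi E) n)) :
    MonoQ (DCoh.tensorBi.flip.obj (E.opcycles n)) := by
  intro M N f hM hN hf
  let S := ShortComplex.mk f (cokernel.π f) (cokernel.condition f)
  have hS : S.ShortExact := { exact := ShortComplex.exact_cokernel f, mono_f := hf }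
  have hΦ := scheme_shortExact_phi E hE S hS
  refine (mono_opcyclesMap_iff DCoh.tensorBi E f n).1 ?_
  haveI := hΦ.mono_f
  haveI : Mono (((phi DCoh.tensorBi E).map f).f (n + 1)) :=
    inferInstanceAs (Mono ((HomologicalComplex.eval X.Modules (ComplexShape.up ℤ) (n + 1)).map
      (S.map (phi DCoh.tensorBi E)).f))
  haveI : Mono (HomologicalComplex.homologyMap ((phi DCoh.tensorBi E).map f) n) := h f hM hN hf
  refine Preadditive.mono_of_cancel_zero _ fun {T} g hg => ?_
  have hg0 : g ≫ ((phi DCoh.tensorBi E).obj M).fromOpcycles n (n + 1) = 0 := by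
    refine zero_of_comp_mono (((phi DCoh.tensorBi E).map f).f (n + 1)) ?_
    have hnat : ((phi DCoh.tensorBi E).obj M).fromOpcycles n (n + 1) ≫
        ((phi DCoh.tensorBi E).map f).f (n + 1) =
        HomologicalComplex.opcyclesMap ((phi DCoh.tensorBi E).map f) n ≫
          ((phi DCoh.tensorBi E).obj N).fromOpcycles n (n + 1) := by
      rw [← cancel_epi (((phi DCoh.tensorBi E).obj M).pOpcycles n)]
      simp
    rw [Category.assoc, hnat, reassoc_of% hg, zero_comp]
  obtain ⟨l, hl⟩ := KernelFork.IsLimit.lift'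
    (((phi DCoh.tensorBi E).obj M).homologyIsKernel n (n + 1) (by simp)) g hg0
  change l ≫ ((phi DCoh.tensorBi E).obj M).homologyι n = g at hl
  have : l ≫ HomologicalComplex.homologyMap ((phi DCoh.tensorBi E).map f) n = 0 := by
    refine zero_of_comp_mono (((phi DCoh.tensorBi E).obj N).homologyι n) ?_
    rw [Category.assoc, HomologicalComplex.homologyι_naturality, reassoc_of% hl, hg]
  rw [← hl, zero_of_comp_mono _ this, zero_comp]

lemma isLocalization_toStalkHom {A : CommRingCat.{u}} (x : Spec A) :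
    @IsLocalization A _ x.asIdeal.primeCompl ((Spec A).presheaf.stalk x) _ (toStalkHom x).toAlgebra := by
  have e : (toStalkHom x).toAlgebra = StructureSheaf.stalkAlgebra A x :=
    Algebra.algebra_ext _ _ fun r => rfl
  rw [e]
  exact StructureSheaf.IsLocalization.to_stalk A x

/-- On an affine scheme, quasi-coherent tests detect flatness. -/
theorem isFlat_of_monoQ {R : CommRingCat.{u}} {P : (Spec R).Modules}
    (h : MonoQ (DCoh.tensorBi.flip.obj P)) : FlatMod.IsFlat P := fun x => by
  haveI := QCoh.tilde_preservesFiniteLimits (R := R)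
  let φ := toStalkHom x
  letI := φ.toAlgebra
  haveI := isLocalization_toStalkHom x
  haveI : x.asIdeal.IsPrime := x.isPrime
  haveI : (ModuleCat.restrictScalars.{u} φ).Full :=
    { map_surjective := fun {M N} f => by
        letI : Module R M := inferInstanceAs (Module R ((ModuleCat.restrictScalars φ).obj M))
        letI : Module R N := inferInstanceAs (Module R ((ModuleCat.restrictScalars φ).obj N))
        haveI : IsScalarTower R ((Spec R).presheaf.stalk x) M :=
          IsScalarTower.of_algebraMap_smul fun _ _ => rfl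
        haveI : IsScalarTower R ((Spec R).presheaf.stalk x) N :=
          IsScalarTower.of_algebraMap_smul fun _ _ => rfl
        let g : M →ₗ[R] N := f.hom
        exact ⟨ModuleCat.ofHom (g.extendScalarsOfIsLocalization x.asIdeal.primeCompl
          ((Spec R).presheaf.stalk x)), rfl⟩ }
  let adj := ModuleCat.extendRestrictScalarsAdj.{u, u, u} φ
  let st := DerSch.stalkFunctor (Spec R) x
  let Φ : ModuleCat.{u} ((Spec R).presheaf.stalk x) ⥤ (Spec R).Modules :=
    ModuleCat.restrictScalars φ ⋙ tilde.functor R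
  let e : Φ ⋙ st ≅ 𝟭 _ :=
    Functor.associator _ _ _ ≪≫ Functor.isoWhiskerLeft _ (stalkTildeIso x) ≪≫ asIso adj.counit
  show Module.Flat _ _
  rw [Module.Flat.iff_rTensor_preserves_injective_linearMap]
  intro N N' _ _ _ _ f hf
  let g : ModuleCat.of ((Spec R).presheaf.stalk x) N ⟶ ModuleCat.of ((Spec R).presheaf.stalk x) N' :=
    ModuleCat.ofHom f
  haveI : Mono g := (ModuleCat.mono_iff_injective g).2 hf
  haveI : Mono (Φ.map g) := inferInstance
  haveI := h (Φ.map g) (inferInstanceAs (Coh.IsQCoh (tilde _))) (inferInstanceAs (Coh.IsQCoh (tilde _))) inferInstance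
  haveI : Mono (st.map ((DCoh.tensorBi.flip.obj P).map (Φ.map g))) := by
    have hs : (ShortComplex.mk ((DCoh.tensorBi.flip.obj P).map (Φ.map g)) (cokernel.π _)
        (cokernel.condition _)).ShortExact :=
      { exact := ShortComplex.exact_cokernel _ }
    exact ((shortExact_iff_stalk _).1 hs x).mono_f
  let e' : Φ ⋙ DCoh.tensorBi.flip.obj P ⋙ st ≅ tensorRight (st.obj P) :=
    Functor.isoWhiskerLeft Φ (stalkTensorRightIso P x) ≪≫ (Functor.associator _ _ _).symm ≪≫
      Functor.isoWhiskerRight e _ ≪≫ Functor.leftUnitor _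
  have h₃ : Mono ((tensorRight (st.obj P)).map g) :=
    ((MorphismProperty.monomorphisms _).arrow_mk_iso_iff
      (((Functor.mapArrowFunctor _ _).mapIso e').app (Arrow.mk g))).1 (by assumption)
  exact (ModuleCat.mono_iff_injective _).1 h₃

end Groth.Agent.Exact7
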