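import Groth.Agent.Exact7.SchemeTensor
import Groth.Agent.Exact7.QCohTest
import Groth.Agent.KFlatLib.Scheme.ProjFormula
import Groth.Agent.KFlatLib.Scheme.PullTensorCx
import Groth.Agent.PerfGen7.RelModuleFP
import Groth.Agent.PerfGen7.RpushPerfect
import Groth.Agent.PerfGen7.RpushPC
import Groth.Agent.ZClosLib.CohDescent

/-!
# `M ↦ R^p f_*(Lf^* M ⊗^L F)` as `M ↦ H^p(M ⊗^L Rf_* F)`
-/

set_option linter.style.haveILetI false
set_option backward.isDefEq.respectTransparency false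

universe u

open CategoryTheory CategoryTheory.Limits AlgebraicGeometry

attribute [local instance] HasDerivedCategory.standard

noncomputable section

namespace Groth.Agent.Exact7

open KFlatLib

variable {X Y : Scheme.{u}}

/-- Fibre dimensions only depend on the isomorphism class. -/
theorem betti_congr [∀ x : X, DCoh.HasLpull (X.fromSpecResidueField x)] {E E' : DCoh.D X}
    (e : E ≅ E') (x : X) (i : ℤ) : PerfD.betti E x i = PerfD.betti E' x i :=
  ((SheafOfModules.evaluation _ (Opposite.op ⊤)).mapIso ((DerivedCategory.homologyFunctor _ i).mapIso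
    ((DCoh.Lpull (X.fromSpecResidueField x)).mapIso e))).toLinearEquiv.finrank_eq

/-- Relative pseudo-coherence over a locally Noetherian base gives coherent cohomology. -/
theorem isCoh_HD_of_rel [IsLocallyNoetherian Y] {f : X ⟶ Y} [LocallyOfFiniteType f] {K : DCoh.D X}
    (h : DerSch.IsPseudoCoherentRelAll f K) (j : ℤ) : Coh.IsCoh (DCoh.HD K j) := by
  haveI := LocallyOfFiniteType.isLocallyNoetherian f
  refine isCoh_of_local fun x => ?_
  obtain ⟨V, hV, hxV, -⟩ := exists_isAffineOpen_mem_and_subset (x := f x) (U := (⊤ : Y.Opens)) trivial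
  obtain ⟨U, hU, hxU, hUV⟩ := exists_isAffineOpen_mem_and_subset (x := x) (U := f ⁻¹ᵁ V) hxV
  obtain ⟨n, φ, hφ⟩ := PerfGen7.exists_chart_of_affine (f := f) hU hV hUV
  haveI := PerfGen7.isClosedImmersion_chartImm hU φ hφ.1
  let G := DerivedCategory.Q.objPreimage K
  have hpc : ∀ m : ℤ, DCoh.IsPseudoCoherentD m (DCoh.toD _
      ((DerSch.pushCx (DerSch.chartImm U φ)).obj ((DCoh.restrictCx U).obj G))) := fun m =>
    PerfGen7.chartPC_of_rel (h m) hU hV hUV φ hφ G ⟨repIso K⟩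
  haveI : IsNoetherianRing Γ(Y, V) := IsLocallyNoetherian.component_noetherian ⟨V, hV⟩
  haveI : IsNoetherianRing (MvPolynomial (Fin n) Γ(Y, V)) := inferInstance
  have hq : DCoh.IsQCohD (DCoh.toD _
      ((DerSch.pushCx (DerSch.chartImm U φ)).obj ((DCoh.restrictCx U).obj G))) := fun i =>
    isQCoh_HD_of_pseudoCoherent (hpc (i - 1)) i (by omega)
  have hc := isCoh_of_iso (PerfGen7.pushRestrictHDIso (DerSch.chartImm U φ) G (repIso K) j)
    (isCoh_of_locPC hq ((isPseudoCoherentD_iff _ _).1 (hpc j)) j le_rfl)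
  haveI := Groth.Agent.KZ.ClosedDev.isIso_counit (DerSch.chartImm U φ) hc.1
  refine ⟨U, U.ι, inferInstance, ⟨⟨x, hxU⟩, rfl⟩, isCoh_of_iso (asIso
    ((Scheme.Modules.pullbackPushforwardAdjunction (DerSch.chartImm U φ)).counit.app
      ((Scheme.Modules.restrictFunctor U.ι).obj (DCoh.HD K j)))) ?_⟩
  exact Groth.Agent.ZClosLib.isCoh_pullback _ hc

/-- Direct images under proper morphisms of relatively pseudo-coherent objects. -/
theorem locPC_rpush_of_rel [IsNoetherian Y] (f : X ⟶ Y) [IsProper f] [DCoh.HasRpush f] (E : DCoh.D X)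
    (a b : ℤ) [E.IsGE a] [E.IsLE b] (h : DerSch.IsPseudoCoherentRelAll f E) (m : ℤ) :
    LocPC m ((DCoh.Rpush f).obj E) := by
  haveI := LocallyOfFiniteType.isLocallyNoetherian f
  haveI : HasInjectiveResolutions X.Modules := hasInjectiveResolutions_modules
  have hgood : ∀ i, PerfGen7.GoodMod f (DCoh.HD E i) := fun i => by
    refine ⟨isCoh_HD_of_rel h i, Or.inr ⟨QCoh.isClosed_support_of_isFT (isCoh_HD_of_rel h i).1
      (isCoh_HD_of_rel h i).2, ?_⟩⟩
    infer_instance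
  have hcoh := PerfGen7.isCohD_rpush_of_isGE f E a hgood
  obtain ⟨N, hN⟩ := PerfGen7.exists_rpush_shift_bound f
  exact locPC_of_coh (isCohD_isQCohD hcoh) (fun i _ => hcoh i) (b + N)
    fun i hi => hN E (fun k => (isCoh_HD_of_rel h k).1) b inferInstance i hi.le

variable (f : X ⟶ Y) [DCoh.HasLpull f]

/-- `Lf^* M ⊗^L F` computed on a K-flat resolution of `M` and a replacement `I` of `F`. -/
theorem nonempty_lpull_ltensor_single {F I : CochainComplex X.Modules ℤ} [DCoh.HasLTensorCx F]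
    (φ : F ⟶ I) [QuasiIso φ] :
    Nonempty (DerivedCategory.singleFunctor Y.Modules 0 ⋙ DCoh.Lpull f ⋙ DCoh.LTensorCx F ≅
      (CochainComplex.singleFunctor Y.Modules 0 ⋙ kRes Y) ⋙
        (pullCx f ⋙ DCoh.tensorCx.obj I) ⋙ DerivedCategory.Q) := by
  let S := CochainComplex.singleFunctor Y.Modules 0
  let P := S ⋙ kRes Y
  let e₀ : DerivedCategory.singleFunctor Y.Modules 0 ≅ S ⋙ DerivedCategory.Q :=
    (SingleFunctors.evaluation _ _ 0).mapIso (DerivedCategory.singleFunctorsPostcompQIso Y.Modules)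
  let α : P ⋙ DerivedCategory.Q ⟶ S ⋙ DerivedCategory.Q :=
    Functor.whiskerLeft S (Functor.whiskerRight (flatCover Y).ψ DerivedCategory.Q)
  haveI : ∀ M, IsIso (α.app M) := fun M => isIso_Q_map _ ((flatCover Y).quasiIso_ψ (S.obj M))
  haveI : IsIso α := NatIso.isIso_of_isIso_app _
  let β : P ⋙ DerivedCategory.Q ⋙ DCoh.Lpull f ⟶ P ⋙ pullCx f ⋙ DerivedCategory.Q :=
    Functor.whiskerLeft P (lpullComparison f)
  haveI : ∀ M, IsIso (β.app M) := fun M => isIso_lpullComparison f (isKFlat_kRes (S.obj M))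
  haveI : IsIso β := NatIso.isIso_of_isIso_app _
  let κ := ((DCoh.tensorCxQ F).totalLeftDerivedCounit DerivedCategory.Q (qisX X))
  let γ : (P ⋙ pullCx f) ⋙ DerivedCategory.Q ⋙ DCoh.LTensorCx F ⟶
      (P ⋙ pullCx f) ⋙ DCoh.tensorCxQ F := Functor.whiskerLeft _ κ
  haveI : ∀ M, IsIso (γ.app M) := fun M =>
    isIso_LTensorCx_counit F (isKFlat_pullback f (isKFlat_kRes (S.obj M)))
  haveI : IsIso γ := NatIso.isIso_of_isIso_app _
  let δ : (P ⋙ pullCx f) ⋙ DCoh.tensorCx.flip.obj F ⋙ DerivedCategory.Q ⟶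
      (P ⋙ pullCx f) ⋙ DCoh.tensorCx.flip.obj I ⋙ DerivedCategory.Q :=
    Functor.whiskerLeft _ (Functor.whiskerRight (DCoh.tensorCx.flip.map φ) DerivedCategory.Q)
  haveI : ∀ M, IsIso (δ.app M) := fun M => isIso_Q_map _
    (KFlat.quasiIso_map' (tensorBiFlipIso X) (isKFlat_pullback f (isKFlat_kRes (S.obj M))) φ)
  haveI : IsIso δ := NatIso.isIso_of_isIso_app _
  exact ⟨Functor.isoWhiskerRight (e₀ ≪≫ (asIso α).symm) (DCoh.Lpull f ⋙ DCoh.LTensorCx F) ≪≫
    Functor.isoWhiskerRight (asIso β) (DCoh.LTensorCx F) ≪≫ asIso γ ≪≫ asIso δ ≪≫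
    Functor.isoWhiskerLeft _ (Functor.isoWhiskerRight (symmIso (tensorBiFlipIso X) I) _)⟩

variable [QuasiCompact f] [QuasiSeparated f] [DCoh.HasRpush f]

/-- The projection formula as an isomorphism of functors of a quasi-coherent module. -/
theorem exists_rpush_hom_iso (F : CochainComplex X.Modules ℤ) (hF : DCoh.IsQCohD (DCoh.toD X F))
    [DCoh.HasLTensorCx F] :
    ∃ (C R : CochainComplex Y.Modules ℤ) (β : R ⟶ C), QuasiIso β ∧ DCoh.IsKFlat R ∧
      (∀ n, FlatMod.IsFlat (R.X n)) ∧ Nonempty (DCoh.toD Y C ≅ (DCoh.Rpush f).obj (DCoh.toD X F)) ∧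
      ∀ p : ℤ, Nonempty ((QCohCat.isQCoh Y).ι ⋙ hom' (phi DCoh.tensorBi R) p ≅
        (QCohCat.isQCoh Y).ι ⋙ DerivedCategory.singleFunctor Y.Modules 0 ⋙ DCoh.Lpull f ⋙
          DCoh.LTensorCx F ⋙ DCoh.Rpush f ⋙ DerivedCategory.homologyFunctor Y.Modules p) := by
  obtain ⟨I, φ, hI, hφ, -, -⟩ := Groth.Agent.TriCat.exists_kInjective_resolution'.{u} F
  haveI := hI
  haveI := hφ
  haveI := isIso_Q_map φ hφ
  obtain ⟨eI⟩ := nonempty_rpush_iso_of_kInjective (f := f) (I := I) (Iso.refl _)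
  let R := (kRes Y).obj ((pushCxF f).obj I)
  let a : R ⟶ (pushCxF f).obj I := (flatCover Y).ψ.app _
  haveI : QuasiIso a := (flatCover Y).quasiIso_ψ _
  have hR : DCoh.IsKFlat R := isKFlat_kRes _
  refine ⟨_, R, a, inferInstance, hR, fun n => isFlat_kRes _ n,
    ⟨eI.symm ≪≫ (DCoh.Rpush f).mapIso (asIso (DerivedCategory.Q.map φ)).symm⟩, fun p => ?_⟩
  have hqI : DCoh.IsQCohD (DerivedCategory.Q.obj I) :=
    isQCohD_of_iso (asIso (DerivedCategory.Q.map φ)) hF
  let S := CochainComplex.singleFunctor Y.Modules 0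
  let P := (QCohCat.isQCoh Y).ι ⋙ S ⋙ kRes Y
  let Θ : P ⋙ DCoh.tensorCx.obj R ⋙ DerivedCategory.Q ⟶
      P ⋙ (pullCx f ⋙ DCoh.tensorCx.obj I) ⋙ DerivedCategory.Q ⋙ DCoh.Rpush f :=
    Functor.whiskerLeft P (projΘ f I a)
  haveI : ∀ M, IsIso (Θ.app M) := fun M => by
    have hP : DCoh.IsKFlat (P.obj M) := isKFlat_kRes _
    haveI := isIso_Q_map _ ((flatCover Y).quasiIso_ψ (S.obj M.obj))
    have hq : DCoh.IsQCohD (DerivedCategory.Q.obj (P.obj M)) := by
      refine isQCohD_of_iso (asIso (DerivedCategory.Q.map ((flatCover Y).ψ.app (S.obj M.obj)))).symm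
        fun n => ?_
      by_cases hn : n = 0
      · subst hn
        exact isQCoh_of_iso ((hdSingleIso M.obj).symm ≪≫ (DerivedCategory.homologyFunctor _ 0).mapIso
          ((DerivedCategory.singleFunctorIsoCompQ Y.Modules 0).app M.obj)) M.property
      · exact isQCoh_of_isZero ((ShortComplex.isZero_homology_of_isZero_X₂ _
          (HomologicalComplex.isZero_single_obj_X (ComplexShape.up ℤ) 0 M.obj n hn)).of_iso
            ((DerivedCategory.homologyFunctorFactors _ n).app _))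
    haveI := isIso_projθ f I a hR hqI (P.obj M) hq
    haveI := isIso_kLiftε (kRespects_tensor R) hP
    haveI := isIso_kLiftε (kRespects_pullTensor f I) hP
    haveI : IsIso ((kLiftε (kRespects_tensor R)).app (P.obj M) ≫ (projΘ f I a).app (P.obj M)) := by
      rw [← projθ_comp_ε f I a (P.obj M)]
      infer_instance
    show IsIso ((projΘ f I a).app (P.obj M))
    exact IsIso.of_isIso_comp_left ((kLiftε (kRespects_tensor R)).app (P.obj M)) _
  haveI : IsIso Θ := NatIso.isIso_of_isIso_app _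
  let μ : P ⋙ DCoh.tensorCx.obj R ⋙ DerivedCategory.Q ⟶
      ((QCohCat.isQCoh Y).ι ⋙ S) ⋙ DCoh.tensorCx.obj R ⋙ DerivedCategory.Q :=
    { app := fun M =>
        DerivedCategory.Q.map ((DCoh.tensorCx.obj R).map ((flatCover Y).ψ.app (S.obj M.obj)))
      naturality := fun M M' g =>
        ((DCoh.tensorCx.obj R ⋙ DerivedCategory.Q).map_comp _ _).symm.trans
          ((congrArg (fun t => (DCoh.tensorCx.obj R ⋙ DerivedCategory.Q).map t)
            ((flatCover Y).ψ.naturality (S.map g.hom))).trans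
          ((DCoh.tensorCx.obj R ⋙ DerivedCategory.Q).map_comp _ _)) }
  haveI : ∀ M, IsIso (μ.app M) := fun M =>
    haveI := (flatCover Y).quasiIso_ψ (S.obj M.obj)
    isIso_Q_map _ (KFlat.quasiIso_map' (tensorBiFlipIso Y) hR ((flatCover Y).ψ.app (S.obj M.obj)))
  haveI : IsIso μ := NatIso.isIso_of_isIso_app _
  obtain ⟨eX⟩ := nonempty_lpull_ltensor_single f φ
  let H := DerivedCategory.homologyFunctor Y.Modules p
  let e₁ : (QCohCat.isQCoh Y).ι ⋙ hom' (phi DCoh.tensorBi R) p ≅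
      (((QCohCat.isQCoh Y).ι ⋙ S) ⋙ DCoh.tensorCx.obj R ⋙ DerivedCategory.Q) ⋙ H :=
    Functor.isoWhiskerLeft (QCohCat.isQCoh Y).ι (Functor.isoWhiskerRight
      (singleLeftIso DCoh.tensorBi R ≪≫ Functor.isoWhiskerLeft S (symmIso (tensorBiFlipIso Y) R)) _ ≪≫
      Functor.isoWhiskerLeft (S ⋙ DCoh.tensorCx.obj R)
        (DerivedCategory.homologyFunctorFactors Y.Modules p).symm)
  exact ⟨e₁ ≪≫ Functor.isoWhiskerRight ((asIso μ).symm ≪≫ asIso Θ) H ≪≫
    Functor.isoWhiskerLeft (QCohCat.isQCoh Y).ι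
      (Functor.isoWhiskerRight eX.symm (DCoh.Rpush f ⋙ H))⟩

end Groth.Agent.Exact7
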