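import Groth.Agent.Exact7.SchemeTensor
import Groth.Agent.Exact7.Opcycles
import Groth.Agent.Exact7.Map
import Groth.Agent.Exact7.PcMap
import Groth.Agent.KFlatLib.Scheme.ExtZero
import Groth.Agent.KFlatLib.Scheme.Amplitude

/-!
# The homology of `M ⊗^L E` on a scheme
-/

set_option linter.style.haveILetI false

universe u

open CategoryTheory CategoryTheory.Limits AlgebraicGeometry MonoidalCategory

attribute [local instance] HasDerivedCategory.standard

namespace Groth.Agent.Exact7

open KFlatLib

variable {X U : Scheme.{u}}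

instance preservesFiniteColimits_tensorBi_obj (M : X.Modules) :
    PreservesFiniteColimits (DCoh.tensorBi.obj M) :=
  ⟨fun _ _ _ => inferInstance⟩

/-- Termwise flatness makes `M ↦ M ⊗ E` exact. -/
theorem scheme_shortExact_phi (E : CochainComplex X.Modules ℤ) (hE : ∀ n, FlatMod.IsFlat (E.X n))
    (S : ShortComplex X.Modules) (hS : S.ShortExact) : (S.map (phi DCoh.tensorBi E)).ShortExact :=
  shortExact_phi DCoh.tensorBi E (fun n => flatObj_of_isFlat (hE n)) S hS

/-- A truncated quasi-isomorphism of K-flat complexes identifies `H^i(- ⊗ E)`. -/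
theorem scheme_iso_of_pcMap {E E' : CochainComplex X.Modules ℤ} (hE : DCoh.IsKFlat E)
    (hE' : DCoh.IsKFlat E') {m : ℤ} (α : DerivedCategory.Q.obj E ⟶ DerivedCategory.Q.obj E')
    (h : IsPcMap m α) (i : ℤ) (hi : m < i) :
    Nonempty (hom' (phi DCoh.tensorBi E) i ≅ hom' (phi DCoh.tensorBi E') i) :=
  nonempty_iso_of_pcMap (flatCover X) flatObj_flatCover (tensorBiFlipIso X) hE hE' α h i hi

/-- A module whose tensor product preserves monomorphisms is flat at every stalk. -/
theorem isFlat_of_mono {P : X.Modules}
    (h : ∀ ⦃A B : X.Modules⦄ (f : A ⟶ B), Mono f → Mono ((DCoh.tensorBi.map f).app P)) :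
    FlatMod.IsFlat P := fun x => by
  show Module.Flat _ _
  rw [Module.Flat.iff_rTensor_preserves_injective_linearMap]
  intro N N' _ _ _ _ f hf
  let st := DerSch.stalkFunctor X x
  let g : ModuleCat.of (X.presheaf.stalk x) N ⟶ ModuleCat.of (X.presheaf.stalk x) N' := ModuleCat.ofHom f
  haveI hg : Mono g := (ModuleCat.mono_iff_injective g).2 hf
  haveI : Mono ((sky x).map g) := by
    have hs : (ShortComplex.mk g (cokernel.π g) (cokernel.condition g)).ShortExact :=
      { exact := ShortComplex.exact_cokernel g }
    have he : ∀ S : ShortComplex (ModuleCat.{u} (X.presheaf.stalk x)), S.ShortExact →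
        (S.map (sky x)).ShortExact :=
      ((Functor.exact_tfae (sky x)).out 1 0).1 (exact_map_sky x)
    exact (he _ hs).mono_f
  haveI := h ((sky x).map g) inferInstance
  haveI : Mono (st.map ((DCoh.tensorBi.map ((sky x).map g)).app P)) := by
    have hs : (ShortComplex.mk ((DCoh.tensorBi.map ((sky x).map g)).app P) (cokernel.π _)
        (cokernel.condition _)).ShortExact :=
      { exact := ShortComplex.exact_cokernel _ }
    exact ((shortExact_iff_stalk _).1 hs x).mono_f
  have h₂ : Mono ((tensorRight (st.obj P)).map ((sky x ⋙ st).map g)) :=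
    ((MorphismProperty.monomorphisms _).arrow_mk_iso_iff
      (((Functor.mapArrowFunctor _ _).mapIso (stalkTensorRightIso P x)).app
        (Arrow.mk ((sky x).map g)))).1 (by assumption)
  have h₃ : Mono ((tensorRight (st.obj P)).map g) :=
    ((MorphismProperty.monomorphisms _).arrow_mk_iso_iff
      ((tensorRight (st.obj P)).mapArrow.mapIso
        (((Functor.mapArrowFunctor _ _).mapIso (skyStalkIso x)).app (Arrow.mk g)))).1 h₂
  exact (ModuleCat.mono_iff_injective _).1 h₃

/-- Left exactness restricts to opens. -/
theorem leftExact_restrict (j : U ⟶ X) [IsOpenImmersion j] (E : CochainComplex X.Modules ℤ) (i : ℤ)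
    [PreservesFiniteLimits (hom' (phi DCoh.tensorBi E) i)] :
    PreservesFiniteLimits (hom' (phi DCoh.tensorBi
      (((Scheme.Modules.restrictFunctor j).mapHomologicalComplex (ComplexShape.up ℤ)).obj E)) i) :=
  leftExact_of_section DCoh.tensorBi DCoh.tensorBi (Scheme.Modules.restrictFunctor j)
    (restrictTensorBiIso j) (lsh j) (asIso (lshAdj j).unit).symm E i

/-- Right exactness restricts to opens. -/
theorem rightExact_restrict (j : U ⟶ X) [IsOpenImmersion j] (E : CochainComplex X.Modules ℤ) (i : ℤ)
    [PreservesFiniteColimits (hom' (phi DCoh.tensorBi E) i)] :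
    PreservesFiniteColimits (hom' (phi DCoh.tensorBi
      (((Scheme.Modules.restrictFunctor j).mapHomologicalComplex (ComplexShape.up ℤ)).obj E)) i) :=
  rightExact_of_section DCoh.tensorBi DCoh.tensorBi (Scheme.Modules.restrictFunctor j)
    (restrictTensorBiIso j) (lsh j) (asIso (lshAdj j).unit).symm E i

end Groth.Agent.Exact7
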