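import Groth.Agent.Exact7.Derived
import Groth.Agent.KFlatLib.Scheme.Amplitude

/-!
# The homology of `M ⊗^L E` on a scheme
-/

set_option linter.style.haveILetI false

universe u

open CategoryTheory CategoryTheory.Limits AlgebraicGeometry MonoidalCategory

attribute [local instance] HasDerivedCategory.standard

namespace Groth.Agent.Exact7

open KFlatLib

variable {X : Scheme.{u}}

set_option maxHeartbeats 1000000 in
/-- `M ↦ H^i(M ⊗^L E)` is `M ↦ H^i(M ⊗ E')` for a K-flat `E'` quasi-isomorphic to `E`. -/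
theorem scheme_homology_iso {E E' : CochainComplex X.Modules ℤ} [DCoh.HasLTensorCx E]
    (β : E' ⟶ E) [QuasiIso β] (hE' : DCoh.IsKFlat E') (i : ℤ) :
    Nonempty (DerivedCategory.singleFunctor X.Modules 0 ⋙ DCoh.LTensorCx E ⋙
      DerivedCategory.homologyFunctor X.Modules i ≅ hom' (phi DCoh.tensorBi E') i) :=
  nonempty_homology_iso DCoh.tensorBi (DCoh.LTensorCx E)
    ((DCoh.tensorCxQ E).totalLeftDerivedCounit DerivedCategory.Q (qisX X))
    (kRes X) (flatCover X).ψ (flatCover X).quasiIso_ψ
    (fun K => isIso_LTensorCx_counit E (isKFlat_kRes K))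
    β (fun K => KFlat.quasiIso_map' (tensorBiFlipIso X) (isKFlat_kRes K) β)
    (fun K => haveI : QuasiIso ((flatCover X).ψ.app K) := (flatCover X).quasiIso_ψ K
      KFlat.quasiIso_map (K := E') hE' ((flatCover X).ψ.app K)) i

end Groth.Agent.Exact7
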