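import Groth.Agent.Exact7.Derived
import Groth.Agent.ModTensor.KFlat
import Groth.Agent.KFlatLib.Derived
import Groth.Prelude.Def_KFlatSite

/-!
# The homology of `M ⊗^L E` on a ringed site
-/

set_option linter.style.haveILetI false

universe u

open CategoryTheory CategoryTheory.Limits

attribute [local instance] HasDerivedCategory.standard

namespace Groth.Agent.Exact7

variable {C : Type u} [SmallCategory C] {J : GrothendieckTopology C} {O : Sheaf J CommRingCat.{u}}

/-- Resolutions for `- ⊗ E`. -/
noncomputable def siteResTensor (E : CochainComplex (ModSite.Mod O) ℤ) :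
    KFlatLib.Resolution (HomologicalComplex.quasiIso (ModSite.Mod O) (ComplexShape.up ℤ))
      (ModSite.tensorCxQ E) where
  Good := ModSite.IsKFlat
  P := (ModTensor.flatCover O).P
  ψ := (ModTensor.flatCover O).ψ
  good := (ModTensor.flatCover O).kFlat_P ModTensor.flatObj_flatCover
  weq K := (ModTensor.flatCover O).quasiIso_ψ K
  inverts _ _ α hP hQ hα := by
    haveI : QuasiIso α := hα
    haveI := ModTensor.quasiIso_tensor α hP hQ E
    refine (DerivedCategory.isIso_Q_map_iff_quasiIso (ModSite.Mod O) _).2 ?_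
    exact (quasiIso_iff_of_arrow_mk_iso (((ModSite.tensorCx O).flip.obj E).map α)
      (((ModSite.tensorCx O).obj E).map α)
      (((Functor.mapArrowFunctor _ _).mapIso
        (KFlatLib.symmIso (ModTensor.tensorFlipIso O) E)).app (Arrow.mk α))).2 (by assumption)

set_option maxHeartbeats 1000000 in
/-- `M ↦ H^i(M ⊗^L E)` is `M ↦ H^i(M ⊗ E')` for a K-flat `E'` quasi-isomorphic to `E`. -/
theorem site_homology_iso {E E' : CochainComplex (ModSite.Mod O) ℤ} [ModSite.HasLTensorCx E]
    (β : E' ⟶ E) [QuasiIso β] (hE' : ModSite.IsKFlat E') (i : ℤ) :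
    Nonempty (DerivedCategory.singleFunctor (ModSite.Mod O) 0 ⋙ ModSite.LTensorCx E ⋙
      DerivedCategory.homologyFunctor (ModSite.Mod O) i ≅ hom' (phi (ModSite.tensorBi O) E') i) :=
  nonempty_homology_iso (ModSite.tensorBi O) (ModSite.LTensorCx E)
    ((ModSite.tensorCxQ E).totalLeftDerivedCounit DerivedCategory.Q _)
    (siteResTensor E).P (siteResTensor E).ψ (siteResTensor E).weq
    (fun K => (siteResTensor E).isIso_totalLeftDerivedCounit DerivedCategory.Q
      ((siteResTensor E).good K))
    β (fun K => KFlatLib.KFlat.quasiIso_map' (ModTensor.tensorFlipIso O)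
      ((siteResTensor E).good K) β)
    (fun K => haveI : QuasiIso ((siteResTensor E).ψ.app K) := (siteResTensor E).weq K
      KFlatLib.KFlat.quasiIso_map (K := E') hE' ((siteResTensor E).ψ.app K)) i

/-- Termwise flatness makes `M ↦ M ⊗ E` exact. -/
theorem site_shortExact_phi (E : CochainComplex (ModSite.Mod O) ℤ) (hE : ∀ n, ModSite.IsFlat (E.X n))
    (S : ShortComplex (ModSite.Mod O)) (hS : S.ShortExact) :
    (S.map (phi (ModSite.tensorBi O) E)).ShortExact :=
  shortExact_phi (ModSite.tensorBi O) E (fun n => (ModTensor.isFlat_iff_flatObj _).1 (hE n)) S hS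

end Groth.Agent.Exact7
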